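import Cfsg.Agent.H907.Basic
set_option linter.all false

-- part: H907/Clifford
section
set_option autoImplicit false

/-!
Clifford theory in prime degree.
-/

namespace Cfsg.Agent.H907

open Cfsg Cfsg.Geo Matrix
open scoped MatrixGroups

set_option linter.unusedSectionVars false

variable {ι : Type} [Fintype ι] [DecidableEq ι] {F : Type*} [Field F]

theorem ext_mulVec {A B : Matrix ι ι F} (h : ∀ v, A *ᵥ v = B *ᵥ v) : A = B := by
  apply Matrix.toLin'.injective
  apply LinearMap.ext
  intro v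
  simpa [Matrix.toLin'_apply] using h v

/-- common eigenspace of `N` for the function `χ` -/
def eig (N : Subgroup (GL ι F)) (χ : N → F) : Submodule F (ι → F) where
  carrier := {v | ∀ n : N, ((n : GL ι F) : Matrix ι ι F) *ᵥ v = χ n • v}
  add_mem' {a b} ha hb := by
    intro n
    rw [Matrix.mulVec_add, ha n, hb n, smul_add]
  zero_mem' := by intro n; simp
  smul_mem' c v hv := by
    intro n
    rw [Matrix.mulVec_smul, hv n, smul_comm]

theorem mem_eig {N : Subgroup (GL ι F)} {χ : N → F} {v : ι → F} :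
    v ∈ eig N χ ↔ ∀ n : N, ((n : GL ι F) : Matrix ι ι F) *ᵥ v = χ n • v := Iff.rfl

theorem eig_indep {N : Subgroup (GL ι F)} (hcomm : ∀ a ∈ N, ∀ b ∈ N, a * b = b * a) : iSupIndep (eig N) := by
  have h := Module.End.independent_iInf_maxGenEigenspace_of_forall_mapsTo
    (fun n : N => Matrix.toLin' ((n : GL ι F) : Matrix ι ι F)) (by
      intro i j φ
      apply Module.End.mapsTo_maxGenEigenspace_of_comm
      have h1 := hcomm j.1 j.2 i.1 i.2
      have h2 : ((j : GL ι F) : Matrix ι ι F) * ((i : GL ι F) : Matrix ι ι F) =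
        ((i : GL ι F) : Matrix ι ι F) * ((j : GL ι F) : Matrix ι ι F) := by
        rw [← Units.val_mul, ← Units.val_mul, h1]
      change _ * _ = _ * _
      rw [Module.End.mul_eq_comp, Module.End.mul_eq_comp, ← Matrix.toLin'_mul, ← Matrix.toLin'_mul, h2])
  refine h.mono fun χ v hv => ?_
  rw [Submodule.mem_iInf]
  intro n
  apply Module.End.mem_maxGenEigenspace _ _ _ |>.2
  refine ⟨1, ?_⟩
  rw [pow_one]
  simp [Matrix.toLin'_apply, hv n]

theorem card_mul_of_indep {κ : Type*} [Fintype κ] (p : κ → Submodule F (ι → F)) (hind : iSupIndep p)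
    (htop : iSup p = ⊤) (d : ℕ) (hd : ∀ i, Module.finrank F (p i) = d) :
    Fintype.card κ * d = Fintype.card ι := by
  classical
  have hI := DirectSum.isInternal_submodule_of_iSupIndep_of_iSup_eq_top hind htop
  have b := hI.collectedBasis (fun i => Module.finBasis F (p i))
  have h1 := Module.finrank_eq_card_basis b
  rw [finrank_whole] at h1
  simp only [Fintype.card_sigma, Fintype.card_fin, hd, Finset.sum_const, Finset.card_univ, smul_eq_mul] at h1
  exact h1.symm

/-- the conjugate of a function on `N` by a normalising element. -/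
def conjChar {N : Subgroup (GL ι F)} (χ : N → F) (h : GL ι F) (hh : ∀ n ∈ N, h⁻¹ * n * h ∈ N) : N → F :=
  fun n => χ ⟨h⁻¹ * n * h, hh n n.2⟩

theorem act_eig_le {N : Subgroup (GL ι F)} (χ : N → F) (h : GL ι F) (hh : ∀ n ∈ N, h⁻¹ * n * h ∈ N) :
    act h (eig N χ) ≤ eig N (conjChar χ h hh) := by
  intro v hv
  obtain ⟨w, hw, rfl⟩ := mem_act.1 hv
  intro n
  have h1 := hw ⟨h⁻¹ * n * h, hh n n.2⟩
  have h2 : ((n : GL ι F) : Matrix ι ι F) *ᵥ ((h : Matrix ι ι F) *ᵥ w) =
      (h : Matrix ι ι F) *ᵥ (((h⁻¹ * (n : GL ι F) * h : GL ι F) : Matrix ι ι F) *ᵥ w) := by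
    rw [Matrix.mulVec_mulVec, Matrix.mulVec_mulVec, ← Units.val_mul, ← Units.val_mul]
    congr 2
    group
  rw [h2]
  simp only at h1
  rw [h1, Matrix.mulVec_smul]
  rfl

theorem conjChar_conjChar_inv {N : Subgroup (GL ι F)} (χ : N → F) (h : GL ι F) (hh : ∀ n ∈ N, h⁻¹ * n * h ∈ N)
    (hh' : ∀ n ∈ N, h⁻¹⁻¹ * n * h⁻¹ ∈ N) : conjChar (conjChar χ h hh) h⁻¹ hh' = χ := by
  funext n
  simp only [conjChar]
  congr 1
  ext1
  simp [mul_assoc]

theorem act_eig_eq {N : Subgroup (GL ι F)} (χ : N → F) (h : GL ι F) (hh : ∀ n ∈ N, h⁻¹ * n * h ∈ N)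
    (hh' : ∀ n ∈ N, h⁻¹⁻¹ * n * h⁻¹ ∈ N) :
    act h (eig N χ) = eig N (conjChar χ h hh) := by
  apply le_antisymm (act_eig_le χ h hh)
  have h1 := act_mono h (act_eig_le (conjChar χ h hh) h⁻¹ hh')
  rwa [act_act_inv, conjChar_conjChar_inv] at h1

/-- The sum of all translates of a non-zero subspace under an irreducible group is everything. -/
theorem iSup_act_eq_top {H : Subgroup (GL ι F)} (hirr : ActsIrreducibly (matrixSet H))
    {W : Submodule F (ι → F)} (hW : W ≠ ⊥) : (⨆ h : H, act (h : GL ι F) W) = ⊤ := by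
  have hinv : Inv H (⨆ h : H, act (h : GL ι F) W) := by
    have key : ∀ g ∈ H, act g (⨆ h : H, act (h : GL ι F) W) ≤ ⨆ h : H, act (h : GL ι F) W := by
      intro g hg
      rw [act_iSup]
      apply iSup_le
      intro h
      have h1 : act g (act (h : GL ι F) W) = act ((⟨g * (h : GL ι F), H.mul_mem hg h.2⟩ : H) : GL ι F) W := by
        rw [← act_mul]
      rw [h1]
      exact le_iSup (fun h : H => act (h : GL ι F) W) _
    intro g hg v hv
    exact key g hg (mulVec_mem_act hv)
  rcases irr_iff.1 hirr (⨆ h : H, act (h : GL ι F) W) hinv with h | h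
  · exfalso
    apply hW
    rw [eq_bot_iff, ← h]
    refine le_trans (le_of_eq (act_one W).symm) (le_iSup (fun h : H => act (h : GL ι F) W) 1)
  · exact h

/-- There is a minimal non-zero `N`-invariant subspace. -/
theorem exists_min_inv (N : Subgroup (GL ι F)) (hι : Nonempty ι) : ∃ W : Submodule F (ι → F), Inv N W ∧ W ≠ ⊥ ∧
    ∀ U, Inv N U → U ≤ W → U = ⊥ ∨ U = W := by
  have hwf : WellFounded ((· < ·) : Submodule F (ι → F) → Submodule F (ι → F) → Prop) := wellFounded_lt
  have hne : {W : Submodule F (ι → F) | Inv N W ∧ W ≠ ⊥}.Nonempty := by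
    refine ⟨⊤, fun g _ v _ => trivial, ?_⟩
    intro h
    have : Nontrivial (Submodule F (ι → F)) := by
      have : Nontrivial (ι → F) := Function.nontrivial
      infer_instance
    exact top_ne_bot h
  obtain ⟨W, hW, hmin⟩ := hwf.has_min _ hne
  refine ⟨W, hW.1, hW.2, fun U hU hle => ?_⟩
  by_cases h : U = ⊥
  · exact Or.inl h
  · right
    by_contra hne
    exact hmin U ⟨hU, h⟩ (lt_of_le_of_ne hle hne)

theorem conj_inv_mem {H N : Subgroup (GL ι F)} (hnorm : ∀ h ∈ H, ∀ n ∈ N, h * n * h⁻¹ ∈ N) :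
    ∀ h ∈ H, ∀ n ∈ N, h⁻¹ * n * h ∈ N := by
  intro h hh n hn
  have := hnorm h⁻¹ (H.inv_mem hh) n hn
  simpa using this

/-- The dimension of a minimal invariant subspace of a normal subgroup divides the degree. -/
theorem finrank_dvd {H N : Subgroup (GL ι F)} (hnorm : ∀ h ∈ H, ∀ n ∈ N, h * n * h⁻¹ ∈ N)
    (hirr : ActsIrreducibly (matrixSet H)) {W : Submodule F (ι → F)} (hW : Inv N W) (hne : W ≠ ⊥)
    (hmin : ∀ U, Inv N U → U ≤ W → U = ⊥ ∨ U = W) : Module.finrank F W ∣ Fintype.card ι := by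
  apply dvd_card_of_extend (Module.finrank F W) (Inv N) (fun g _ v hv => by
    rw [Submodule.mem_bot] at hv; subst hv; simp)
  intro U hU hT
  have h1 : ∃ h : H, ¬ act (h : GL ι F) W ≤ U := by
    by_contra hcon
    push Not at hcon
    apply hT
    rw [eq_top_iff, ← iSup_act_eq_top hirr hne]
    exact iSup_le hcon
  obtain ⟨h, hh⟩ := h1
  have h2 : Inv N (act (h : GL ι F) W) := hW.conj (conj_inv_mem hnorm) h.2
  refine ⟨act (h : GL ι F) W, hU.sup h2, ?_, finrank_act _ _, ?_⟩
  · have h3 : Inv N (act ((h : GL ι F)⁻¹) (U ⊓ act (h : GL ι F) W)) :=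
      (hU.inf h2).conj (conj_inv_mem hnorm) (H.inv_mem h.2)
    have h5 : act ((h : GL ι F)⁻¹) (U ⊓ act (h : GL ι F) W) ≤ W := by
      have := act_mono ((h : GL ι F)⁻¹) (inf_le_right : U ⊓ act (h : GL ι F) W ≤ _)
      rwa [act_inv_act] at this
    rcases hmin _ h3 h5 with h4 | h4
    · have := congrArg (act (h : GL ι F)) h4
      rwa [act_act_inv, act_bot] at this
    · exfalso
      apply hh
      have := congrArg (act (h : GL ι F)) h4
      rw [act_act_inv] at this
      rw [← this]
      exact inf_le_left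
  · intro h3
    apply hne
    apply act_injective (h : GL ι F)
    rw [h3, act_bot]

/-- **Clifford's theorem in prime degree.** -/
theorem clifford_prime {r : ℕ} (hr : r.Prime) (hcard : Fintype.card ι = r) {H N : Subgroup (GL ι F)}
    (hnorm : ∀ h ∈ H, ∀ n ∈ N, h * n * h⁻¹ ∈ N) (hirr : ActsIrreducibly (matrixSet H)) :
    ActsIrreducibly (matrixSet N) ∨ N ≤ scalars ι F ∨
    ∃ D : Fin r → Submodule F (ι → F), IsMDecomposition 1 D ∧ H ≤ decompositionStabilizer D ∧
      (∀ i j, ∃ h ∈ H, act h (D i) = D j) ∧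
      ∃ χ : Fin r → N → F, Function.Injective χ ∧ ∀ i, D i = eig N (χ i) := by
  classical
  have hι : Nonempty ι := by
    rw [← Fintype.card_pos_iff, hcard]; exact hr.pos
  have hnorm' := conj_inv_mem hnorm
  obtain ⟨W, hW, hne, hmin⟩ := exists_min_inv N hι
  have hdvd := finrank_dvd hnorm hirr hW hne hmin
  rw [hcard] at hdvd
  rcases (Nat.dvd_prime hr).1 hdvd with h1 | h1
  swap
  · -- N irreducible
    left
    have hWtop : W = ⊤ := by
      apply Submodule.eq_top_of_finrank_eq
      rw [h1, finrank_whole, hcard]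
    subst hWtop
    rw [irr_iff]
    exact fun U hU => hmin U hU le_top
  -- W is a line
  obtain ⟨w, hw0, hwW⟩ := finrank_eq_one_iff'.1 h1
  have hw0' : (w : ι → F) ≠ 0 := fun h => hw0 (Subtype.ext h)
  have hchi : ∀ n : N, ∃ c : F, ((n : GL ι F) : Matrix ι ι F) *ᵥ (w : ι → F) = c • (w : ι → F) := by
    intro n
    obtain ⟨c, hc⟩ := hwW ⟨_, hW n n.2 w w.2⟩
    exact ⟨c, (congrArg Subtype.val hc).symm⟩
  choose χ₀ hχ₀ using hchi
  have hWE : W ≤ eig N χ₀ := by
    intro v hv
    obtain ⟨c, hc⟩ := hwW ⟨v, hv⟩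
    have hc' : v = c • (w : ι → F) := (congrArg Subtype.val hc).symm
    intro n
    rw [hc', Matrix.mulVec_smul, hχ₀, smul_comm]
  have hE0 : eig N χ₀ ≠ ⊥ := by
    intro h
    rw [h] at hWE
    exact hne (le_bot_iff.1 hWE)
  have htopE := iSup_act_eq_top hirr hE0
  -- translates are eigenspaces
  have hact : ∀ h : H, act (h : GL ι F) (eig N χ₀) = eig N (conjChar χ₀ (h : GL ι F) (hnorm' h h.2)) := by
    intro h
    apply act_eig_eq _ _ _ (fun n hn => by simpa using hnorm (h : GL ι F) h.2 n hn)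
  -- N is commutative
  have hcomm : ∀ a ∈ N, ∀ b ∈ N, a * b = b * a := by
    intro a ha b hb
    have hle : (⊤ : Submodule F (ι → F)) ≤
        LinearMap.ker (Matrix.toLin' ((a : Matrix ι ι F) * (b : Matrix ι ι F) - (b : Matrix ι ι F) * (a : Matrix ι ι F))) := by
      rw [← htopE]
      apply iSup_le
      intro h
      rw [hact h]
      intro v hv
      rw [LinearMap.mem_ker, Matrix.toLin'_apply, Matrix.sub_mulVec, ← Matrix.mulVec_mulVec, ← Matrix.mulVec_mulVec]
      have h1 := hv ⟨a, ha⟩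
      have h2 := hv ⟨b, hb⟩
      simp only at h1 h2
      rw [h1, h2, Matrix.mulVec_smul, Matrix.mulVec_smul, h1, h2, smul_comm, sub_self]
    have h3 : Matrix.toLin' ((a : Matrix ι ι F) * (b : Matrix ι ι F) - (b : Matrix ι ι F) * (a : Matrix ι ι F)) = 0 := by
      rw [← LinearMap.ker_eq_top]
      exact le_antisymm le_top hle
    have h4 : (a : Matrix ι ι F) * (b : Matrix ι ι F) - (b : Matrix ι ι F) * (a : Matrix ι ι F) = 0 := by
      apply Matrix.toLin'.injective
      rw [h3, map_zero]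
    apply Units.ext
    rw [Units.val_mul, Units.val_mul]
    exact sub_eq_zero.1 h4
  have hind := eig_indep hcomm
  -- the set of characters in the orbit
  set X : Set (N → F) := {χ | eig N χ ≠ ⊥} with hX
  have hXfin : X.Finite := WellFoundedGT.finite_ne_bot_of_iSupIndep hind
  have : Fintype X := hXfin.fintype
  have horb : ∀ χ ∈ X, ∃ h : H, conjChar χ₀ (h : GL ι F) (hnorm' h h.2) = χ := by
    intro χ hχ
    by_contra hcon
    push Not at hcon
    have h5 := hind χ
    apply hχ
    have h6 : (⊤ : Submodule F (ι → F)) ≤ ⨆ j, ⨆ (_ : j ≠ χ), eig N j := by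
      rw [← htopE]
      apply iSup_le
      intro h
      rw [hact h]
      exact le_iSup₂_of_le _ (hcon h) le_rfl
    rw [top_le_iff.1 h6, disjoint_top] at h5
    exact h5
  have hd : ∀ χ : X, Module.finrank F (eig N (χ : N → F)) = Module.finrank F (eig N χ₀) := by
    intro χ
    obtain ⟨h, hh⟩ := horb χ χ.2
    rw [← hh, ← hact h, finrank_act]
  have hindX : iSupIndep (fun χ : X => eig N (χ : N → F)) := hind.comp Subtype.val_injective
  have htopX : iSup (fun χ : X => eig N (χ : N → F)) = ⊤ := by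
    rw [eq_top_iff, ← htopE]
    apply iSup_le
    intro h
    rw [hact h]
    have h7 : conjChar χ₀ (h : GL ι F) (hnorm' h h.2) ∈ X := by
      change eig N _ ≠ ⊥
      rw [← hact h]
      intro h8
      apply hE0
      apply act_injective (h : GL ι F)
      rw [h8, act_bot]
    exact le_iSup (fun χ : X => eig N (χ : N → F)) ⟨_, h7⟩
  have hcount := card_mul_of_indep _ hindX htopX _ hd
  rw [hcard] at hcount
  have hdr : Module.finrank F (eig N χ₀) ∣ r := ⟨_, by rw [mul_comm]; exact hcount.symm⟩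
  rcases (Nat.dvd_prime hr).1 hdr with h2 | h2
  · -- lines
    right; right
    rw [h2, mul_one] at hcount
    let e : Fin r ≃ X := (Fintype.equivFinOfCardEq hcount).symm
    refine ⟨fun i => eig N (e i : N → F), ⟨hr.two_le, one_pos, fun i => by rw [hd, h2], ?_, ?_⟩, ?_, ?_,
      fun i => (e i : N → F), fun i j hij => e.injective (Subtype.ext hij), fun i => rfl⟩
    · exact hindX.comp e.injective
    · rw [← htopX]
      exact e.iSup_comp (g := fun χ : X => eig N (χ : N → F))
    · intro h hh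
      have hmem : ∀ χ : X, conjChar (χ : N → F) h (hnorm' h hh) ∈ X := by
        intro χ
        change eig N _ ≠ ⊥
        rw [← act_eig_eq _ _ (hnorm' h hh) (fun n hn => by simpa using hnorm h hh n hn)]
        intro h8
        apply χ.2
        apply act_injective h
        rw [h8, act_bot]
      have hinj : Function.Injective (fun χ : X => (⟨conjChar (χ : N → F) h (hnorm' h hh), hmem χ⟩ : X)) := by
        intro χ ψ hχψ
        apply Subtype.ext
        have h9 := congrArg Subtype.val hχψ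
        simp only at h9
        funext n
        have h10 := congrFun h9 ⟨h * n * h⁻¹, hnorm h hh n n.2⟩
        simp only [conjChar] at h10
        have h11 : (⟨h⁻¹ * (h * (n : GL ι F) * h⁻¹) * h, hnorm' h hh _ (hnorm h hh n n.2)⟩ : N) = n := by
          apply Subtype.ext
          simp only
          group
        rw [h11] at h10
        exact h10
      let f : Equiv.Perm X := Equiv.ofBijective _ (Finite.injective_iff_bijective.1 hinj)
      refine ⟨(e.trans f).trans e.symm, fun i => ?_⟩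
      have h12 := act_eig_eq (e i : N → F) h (hnorm' h hh) (fun n hn => by simpa using hnorm h hh n hn)
      change act h (eig N (e i : N → F)) = _
      rw [h12]
      simp only [Equiv.trans_apply, Equiv.apply_symm_apply]
      rfl
    · intro i j
      obtain ⟨h, hh⟩ := horb (e i) (e i).2
      obtain ⟨k, hk⟩ := horb (e j) (e j).2
      refine ⟨(k : GL ι F) * (h : GL ι F)⁻¹, H.mul_mem k.2 (H.inv_mem h.2), ?_⟩
      rw [act_mul]
      simp only
      rw [← hh, ← hk, ← hact h, ← hact k, act_inv_act]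
  · -- scalar
    right; left
    have hT : eig N χ₀ = ⊤ := by
      apply Submodule.eq_top_of_finrank_eq
      rw [h2, finrank_whole, hcard]
    intro n hn
    rw [mem_scalars_iff]
    have h3 : ∀ v : ι → F, (n : Matrix ι ι F) *ᵥ v = χ₀ ⟨n, hn⟩ • v := by
      intro v
      have : v ∈ eig N χ₀ := by rw [hT]; trivial
      exact this ⟨n, hn⟩
    have h4 : (n : Matrix ι ι F) = χ₀ ⟨n, hn⟩ • (1 : Matrix ι ι F) := by
      apply ext_mulVec
      intro v
      rw [h3, Matrix.smul_mulVec, Matrix.one_mulVec]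
    have h5 : χ₀ ⟨n, hn⟩ ≠ 0 := by
      intro h0
      have h6 := hχ₀ ⟨n, hn⟩
      rw [h0, zero_smul] at h6
      apply hw0'
      apply mulVec_injective n
      simp only
      rw [Matrix.mulVec_zero]
      exact h6
    exact ⟨Units.mk0 _ h5, h4⟩

end Cfsg.Agent.H907
end

-- part: H907/Schur
section
set_option autoImplicit false

/-!
Schur's lemma, commutative subalgebras in prime degree, absolute irreducibility.
-/

namespace Cfsg.Agent.H907

open Cfsg Cfsg.Geo Matrix
open scoped MatrixGroups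

set_option linter.unusedSectionVars false

variable {ι : Type} [Fintype ι] [DecidableEq ι] {F : Type*} [Field F]

theorem isUnit_of_ker {M : Matrix ι ι F} (h : ∀ v, M *ᵥ v = 0 → v = 0) : IsUnit M := by
  have hinj : Function.Injective (Matrix.toLin' M) := by
    rw [injective_iff_map_eq_zero]
    intro v hv
    exact h v (by simpa [Matrix.toLin'_apply] using hv)
  have h1 : Function.Injective M.mulVec := by
    intro v w hvw
    exact hinj (by simpa [Matrix.toLin'_apply] using hvw)
  exact Matrix.mulVec_injective_iff_isUnit.1 h1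

/-- Schur's lemma: a non-zero matrix commuting with an irreducible group is invertible. -/
theorem isUnit_of_commute {N : Subgroup (GL ι F)} (hN : ActsIrreducibly (matrixSet N)) {M : Matrix ι ι F}
    (hM : ∀ g ∈ N, M * (g : Matrix ι ι F) = (g : Matrix ι ι F) * M) (h0 : M ≠ 0) : IsUnit M := by
  apply isUnit_of_ker
  have hinv : Inv N (LinearMap.ker (Matrix.toLin' M)) := by
    intro g hg v hv
    rw [LinearMap.mem_ker, Matrix.toLin'_apply] at *
    rw [Matrix.mulVec_mulVec, hM g hg, ← Matrix.mulVec_mulVec, hv, Matrix.mulVec_zero]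
  rcases irr_iff.1 hN _ hinv with h | h
  · intro v hv
    have : v ∈ LinearMap.ker (Matrix.toLin' M) := by rw [LinearMap.mem_ker, Matrix.toLin'_apply]; exact hv
    rw [h] at this
    simpa using this
  · exfalso
    apply h0
    apply ext_mulVec
    intro v
    have : v ∈ LinearMap.ker (Matrix.toLin' M) := by rw [h]; trivial
    rw [LinearMap.mem_ker, Matrix.toLin'_apply] at this
    rw [this, Matrix.zero_mulVec]

section fieldsub

variable {r : ℕ} (hr : r.Prime) (hcard : Fintype.card ι = r) (K : Subalgebra F (Matrix ι ι F))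
  (hcomm : ∀ x ∈ K, ∀ y ∈ K, x * y = y * x) (hunit : ∀ x ∈ K, x ≠ 0 → IsUnit x)

include hunit in
theorem sub_inv : ∀ x ∈ K, x ≠ 0 → ∃ y ∈ K, x * y = 1 ∧ y * x = 1 := by
  intro x hx h0
  have hu := hunit x hx h0
  let f : K →ₗ[F] K :=
    { toFun := fun y => ⟨x * y, K.mul_mem hx y.2⟩
      map_add' := fun a b => Subtype.ext (mul_add _ _ _)
      map_smul' := fun c a => Subtype.ext (by simp) }
  have hinj : Function.Injective f := by
    intro a b hab
    have h1 : x * (a : Matrix ι ι F) = x * b := congrArg Subtype.val hab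
    exact Subtype.ext (hu.mul_left_cancel h1)
  have hsurj : Function.Surjective f := LinearMap.surjective_of_injective hinj
  obtain ⟨y, hy⟩ := hsurj 1
  have h2 : x * (y : Matrix ι ι F) = 1 := congrArg Subtype.val hy
  refine ⟨y, y.2, h2, ?_⟩
  exact mul_eq_one_comm.1 h2

/-- the orbit subspace `K v`. -/
def orb (v : ι → F) : Submodule F (ι → F) :=
  (K.toSubmodule).map ((Matrix.mulVecBilin F F).flip v)

theorem mem_orb {v w : ι → F} : w ∈ orb K v ↔ ∃ k ∈ K, k *ᵥ v = w := by
  simp [orb, Submodule.mem_map]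

include hunit in
theorem finrank_orb {v : ι → F} (hv : v ≠ 0) : Module.finrank F (orb K v) = Module.finrank F K := by
  let f : K →ₗ[F] (ι → F) :=
    { toFun := fun y => (y : Matrix ι ι F) *ᵥ v
      map_add' := fun a b => by simp [Matrix.add_mulVec]
      map_smul' := fun c a => by simp [Matrix.smul_mulVec] }
  have hinj : Function.Injective f := by
    rw [injective_iff_map_eq_zero]
    intro a ha
    by_contra h0
    have h1 : (a : Matrix ι ι F) ≠ 0 := fun h => h0 (Subtype.ext h)
    obtain ⟨y, _, _, hy⟩ := sub_inv K hunit a a.2 h1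
    apply hv
    have h2 : (a : Matrix ι ι F) *ᵥ v = 0 := ha
    have h3 : y *ᵥ ((a : Matrix ι ι F) *ᵥ v) = 0 := by rw [h2, Matrix.mulVec_zero]
    rwa [Matrix.mulVec_mulVec, hy, Matrix.one_mulVec] at h3
  have h1 : LinearMap.range f = orb K v := by
    ext w
    rw [mem_orb, LinearMap.mem_range]
    constructor
    · rintro ⟨y, rfl⟩; exact ⟨y, y.2, rfl⟩
    · rintro ⟨k, hk, rfl⟩; exact ⟨⟨k, hk⟩, rfl⟩
  rw [← h1, LinearMap.finrank_range_of_inj hinj]

include hunit in
theorem finrank_sub_dvd : Module.finrank F K ∣ Fintype.card ι := by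
  apply dvd_card_of_extend _ (fun U => ∀ k ∈ K, ∀ v ∈ U, k *ᵥ v ∈ U) (by
    intro k _ v hv
    rw [Submodule.mem_bot] at hv; subst hv; simp)
  intro U hU hT
  obtain ⟨v, hv⟩ : ∃ v, v ∉ U := by
    by_contra h
    push Not at h
    exact hT (eq_top_iff.2 fun v _ => h v)
  have hv0 : v ≠ 0 := by rintro rfl; exact hv U.zero_mem
  refine ⟨orb K v, ?_, ?_, finrank_orb K hunit hv0, ?_⟩
  · intro k hk w hw
    obtain ⟨a, ha, b, hb, rfl⟩ := Submodule.mem_sup.1 hw
    rw [Matrix.mulVec_add]
    apply Submodule.add_mem_sup (hU k hk a ha)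
    obtain ⟨x, hx, rfl⟩ := (mem_orb K).1 hb
    rw [Matrix.mulVec_mulVec]
    exact (mem_orb K).2 ⟨_, K.mul_mem hk hx, rfl⟩
  · rw [eq_bot_iff]
    rintro w ⟨hw1, hw2⟩
    obtain ⟨x, hx, rfl⟩ := (mem_orb K).1 hw2
    by_cases h0 : x = 0
    · subst h0; simp
    · exfalso
      obtain ⟨y, hy, _, hyx⟩ := sub_inv K hunit x hx h0
      apply hv
      have := hU y hy _ hw1
      rwa [Matrix.mulVec_mulVec, hyx, Matrix.one_mulVec] at this
  · intro h
    apply hv0
    have : v ∈ orb K v := (mem_orb K).2 ⟨1, K.one_mem, Matrix.one_mulVec v⟩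
    rw [h] at this
    simpa using this

include hr hcard hunit in
theorem finrank_sub_eq (hns : ∃ x ∈ K, ¬ ∃ c : F, x = c • (1 : Matrix ι ι F)) : Module.finrank F K = r := by
  have h1 := finrank_sub_dvd K hunit
  rw [hcard] at h1
  rcases (Nat.dvd_prime hr).1 h1 with h2 | h2
  · exfalso
    obtain ⟨x, hx, hxs⟩ := hns
    have hne : Nonempty ι := by
      rw [← Fintype.card_pos_iff, hcard]; exact hr.pos
    have h10 : (1 : K) ≠ 0 := by
      intro h
      have : (1 : Matrix ι ι F) = 0 := congrArg Subtype.val h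
      exact one_ne_zero this
    obtain ⟨c, hc⟩ := (finrank_eq_one_iff_of_nonzero' (1 : K) h10).1 h2 ⟨x, hx⟩
    apply hxs
    exact ⟨c, (congrArg Subtype.val hc).symm⟩
  · exact h2

include hr hcard hunit in
theorem orb_eq_top (hns : ∃ x ∈ K, ¬ ∃ c : F, x = c • (1 : Matrix ι ι F)) {v : ι → F} (hv : v ≠ 0) :
    orb K v = ⊤ := by
  apply Submodule.eq_top_of_finrank_eq
  rw [finrank_orb K hunit hv, finrank_sub_eq hr hcard K hunit hns, finrank_whole, hcard]

include hr hcard hcomm hunit in
theorem mem_of_commute (hns : ∃ x ∈ K, ¬ ∃ c : F, x = c • (1 : Matrix ι ι F)) {M : Matrix ι ι F}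
    (hM : ∀ x ∈ K, M * x = x * M) : M ∈ K := by
  have hne : Nonempty ι := by
    rw [← Fintype.card_pos_iff, hcard]; exact hr.pos
  have : Nontrivial (ι → F) := Function.nontrivial
  obtain ⟨v, hv⟩ := exists_ne (0 : ι → F)
  have hT := orb_eq_top hr hcard K hunit hns hv
  have h1 : M *ᵥ v ∈ orb K v := by rw [hT]; trivial
  obtain ⟨k, hk, hkv⟩ := (mem_orb K).1 h1
  have : M = k := by
    apply ext_mulVec
    intro w
    have h2 : w ∈ orb K v := by rw [hT]; trivial
    obtain ⟨x, hx, rfl⟩ := (mem_orb K).1 h2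
    rw [Matrix.mulVec_mulVec, hM x hx, ← Matrix.mulVec_mulVec, ← hkv, Matrix.mulVec_mulVec, Matrix.mulVec_mulVec,
      hcomm x hx k hk]
  rw [this]; exact hk

include hr hcard hcomm hunit in
theorem isFieldSubalgebra (hns : ∃ x ∈ K, ¬ ∃ c : F, x = c • (1 : Matrix ι ι F)) : IsFieldSubalgebra r K where
  comm := hcomm
  inv := fun x hx h0 => by
    obtain ⟨y, hy, h1, _⟩ := sub_inv K hunit x hx h0
    exact ⟨y, hy, h1⟩
  finrank_eq := finrank_sub_eq hr hcard K hunit hns

end fieldsub

theorem adjoin_commute {S : Set (Matrix ι ι F)} {M : Matrix ι ι F} (hM : ∀ s ∈ S, M * s = s * M) :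
    ∀ x ∈ Algebra.adjoin F S, M * x = x * M := by
  intro x hx
  induction hx using Algebra.adjoin_induction with
  | mem x hx => exact hM x hx
  | algebraMap c => exact (Algebra.commutes c M).symm
  | add x y _ _ h1 h2 => rw [mul_add, add_mul, h1, h2]
  | mul x y _ _ h1 h2 => rw [← mul_assoc, h1, mul_assoc, h2, mul_assoc]

theorem adjoin_comm {S : Set (Matrix ι ι F)} (hS : ∀ s ∈ S, ∀ t ∈ S, s * t = t * s) :
    ∀ x ∈ Algebra.adjoin F S, ∀ y ∈ Algebra.adjoin F S, x * y = y * x := by
  intro x hx y hy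
  apply adjoin_commute (M := x) _ y hy
  intro s hs
  exact (adjoin_commute (M := s) (fun t ht => hS s hs t ht) x hx).symm

theorem exists_not_scalar_of_irr {r : ℕ} (hr : r.Prime) (hcard : Fintype.card ι = r) {N : Subgroup (GL ι F)}
    (hN : ActsIrreducibly (matrixSet N)) : ∃ g ∈ N, ¬ ∃ c : F, (g : Matrix ι ι F) = c • (1 : Matrix ι ι F) := by
  by_contra hcon
  push Not at hcon
  have hne : Nonempty ι := by
    rw [← Fintype.card_pos_iff, hcard]; exact hr.pos
  have : Nontrivial (ι → F) := Function.nontrivial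
  obtain ⟨v, hv⟩ := exists_ne (0 : ι → F)
  have hinv : Inv N (Submodule.span F {v}) := by
    intro g hg w hw
    obtain ⟨c, hc⟩ := hcon g hg
    rw [hc, Matrix.smul_mulVec, Matrix.one_mulVec]
    exact Submodule.smul_mem _ _ hw
  have h1 : Module.finrank F (Submodule.span F {v}) = 1 := finrank_span_singleton hv
  rcases irr_iff.1 hN _ hinv with h | h
  · rw [h, finrank_bot] at h1; omega
  · rw [h, finrank_top, finrank_whole, hcard] at h1
    exact hr.one_lt.ne' h1

theorem scalar_mem_center {c : F} (M : Matrix ι ι F) : (c • (1 : Matrix ι ι F)) * M = M * (c • (1 : Matrix ι ι F)) := by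
  simp

/-- The field generated by an abelian irreducible group in prime degree. -/
theorem isField_adjoin {r : ℕ} (hr : r.Prime) (hcard : Fintype.card ι = r) {N : Subgroup (GL ι F)}
    (hN : ActsIrreducibly (matrixSet N)) (hcomm : ∀ a ∈ N, ∀ b ∈ N, a * b = b * a) :
    IsFieldSubalgebra r (Algebra.adjoin F (matrixSet N)) := by
  have hc : ∀ s ∈ matrixSet N, ∀ t ∈ matrixSet N, s * t = t * s := by
    rintro _ ⟨a, ha, rfl⟩ _ ⟨b, hb, rfl⟩
    simp only
    rw [← Units.val_mul, ← Units.val_mul, hcomm a ha b hb]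
  apply isFieldSubalgebra hr hcard _ (adjoin_comm hc)
  · intro x hx h0
    apply isUnit_of_commute hN _ h0
    intro g hg
    exact (adjoin_commute (M := (g : Matrix ι ι F)) (fun t ht => hc _ (mem_matrixSet hg) t ht) x hx).symm
  · obtain ⟨g, hg, hgs⟩ := exists_not_scalar_of_irr hr hcard hN
    exact ⟨g, Algebra.subset_adjoin (mem_matrixSet hg), hgs⟩

theorem adjoin_conj {N : Subgroup (GL ι F)} {h : GL ι F} (hh : ∀ n ∈ N, h * n * h⁻¹ ∈ N) :
    ∀ x ∈ Algebra.adjoin F (matrixSet N),
      (h : Matrix ι ι F) * x * ((h⁻¹ : GL ι F) : Matrix ι ι F) ∈ Algebra.adjoin F (matrixSet N) := by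
  intro x hx
  have hinv : ((h⁻¹ : GL ι F) : Matrix ι ι F) * (h : Matrix ι ι F) = 1 := by
    rw [← Units.val_mul, inv_mul_cancel, Units.val_one]
  have hinv' : (h : Matrix ι ι F) * ((h⁻¹ : GL ι F) : Matrix ι ι F) = 1 := by
    rw [← Units.val_mul, mul_inv_cancel, Units.val_one]
  induction hx using Algebra.adjoin_induction with
  | mem x hx =>
    obtain ⟨n, hn, rfl⟩ := hx
    have := mem_matrixSet (hh n hn)
    rw [Units.val_mul, Units.val_mul] at this
    exact Algebra.subset_adjoin this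
  | algebraMap c =>
    rw [← Algebra.commutes, mul_assoc, hinv', mul_one]
    exact Subalgebra.algebraMap_mem _ c
  | add x y _ _ h1 h2 => rw [mul_add, add_mul]; exact Subalgebra.add_mem _ h1 h2
  | mul x y _ _ h1 h2 =>
    have := Subalgebra.mul_mem _ h1 h2
    have e : (h : Matrix ι ι F) * x * ((h⁻¹ : GL ι F) : Matrix ι ι F) *
        ((h : Matrix ι ι F) * y * ((h⁻¹ : GL ι F) : Matrix ι ι F)) =
        (h : Matrix ι ι F) * (x * y) * ((h⁻¹ : GL ι F) : Matrix ι ι F) := by
      calc _ = (h : Matrix ι ι F) * x * (((h⁻¹ : GL ι F) : Matrix ι ι F) * (h : Matrix ι ι F)) * y *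
          ((h⁻¹ : GL ι F) : Matrix ι ι F) := by simp only [mul_assoc]
        _ = _ := by rw [hinv, mul_one]; simp only [mul_assoc]
    rwa [e] at this

theorem le_subalgebraNormalizer {H N : Subgroup (GL ι F)} (hnorm : ∀ h ∈ H, ∀ n ∈ N, h * n * h⁻¹ ∈ N) :
    H ≤ subalgebraNormalizer (Algebra.adjoin F (matrixSet N)) := by
  intro h hh k
  constructor
  · exact adjoin_conj (hnorm h hh) k
  · intro hk
    have := adjoin_conj (hnorm h⁻¹ (H.inv_mem hh)) _ hk
    have hinv : ((h⁻¹ : GL ι F) : Matrix ι ι F) * (h : Matrix ι ι F) = 1 := by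
      rw [← Units.val_mul, inv_mul_cancel, Units.val_one]
    have e : ((h⁻¹ : GL ι F) : Matrix ι ι F) * ((h : Matrix ι ι F) * k * ((h⁻¹ : GL ι F) : Matrix ι ι F)) *
        ((h⁻¹⁻¹ : GL ι F) : Matrix ι ι F) = k := by
      rw [inv_inv]
      calc _ = (((h⁻¹ : GL ι F) : Matrix ι ι F) * (h : Matrix ι ι F)) * k *
          (((h⁻¹ : GL ι F) : Matrix ι ι F) * (h : Matrix ι ι F)) := by simp only [mul_assoc]
        _ = _ := by rw [hinv]; simp
    rwa [e] at this

/-- A non-abelian irreducible group in prime degree is absolutely irreducible. -/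
theorem absIrr_of_nonabelian {r : ℕ} (hr : r.Prime) (hcard : Fintype.card ι = r) {N : Subgroup (GL ι F)}
    (hN : ActsIrreducibly (matrixSet N)) (hnc : ¬ ∀ a ∈ N, ∀ b ∈ N, a * b = b * a) :
    ActsAbsolutelyIrreducibly (matrixSet N) := by
  refine ⟨hN, fun M hM => ?_⟩
  by_contra hns
  apply hnc
  have hM' : ∀ g ∈ N, M * (g : Matrix ι ι F) = (g : Matrix ι ι F) * M := fun g hg => hM _ (mem_matrixSet hg)
  set K := Algebra.adjoin F {M} with hK
  have hKc : ∀ x ∈ K, ∀ y ∈ K, x * y = y * x := adjoin_comm (by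
    intro s hs t ht
    rw [Set.mem_singleton_iff] at hs ht
    rw [hs, ht])
  have hKN : ∀ g ∈ N, ∀ x ∈ K, (g : Matrix ι ι F) * x = x * (g : Matrix ι ι F) := by
    intro g hg
    apply adjoin_commute
    intro s hs
    rw [Set.mem_singleton_iff] at hs
    rw [hs]; exact (hM' g hg).symm
  have hKu : ∀ x ∈ K, x ≠ 0 → IsUnit x := fun x hx h0 =>
    isUnit_of_commute hN (fun g hg => (hKN g hg x hx).symm) h0
  have hKns : ∃ x ∈ K, ¬ ∃ c : F, x = c • (1 : Matrix ι ι F) :=
    ⟨M, Algebra.subset_adjoin rfl, hns⟩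
  have hNK : ∀ g ∈ N, (g : Matrix ι ι F) ∈ K := fun g hg =>
    mem_of_commute hr hcard K hKc hKu hKns (hKN g hg)
  intro a ha b hb
  apply Units.ext
  rw [Units.val_mul, Units.val_mul]
  exact hKc _ (hNK a ha) _ (hNK b hb)

end Cfsg.Agent.H907
end
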