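import Mathlib
import Cfsg.Agent.H907.FieldSub
import Cfsg.Agent.H918.UBase
set_option linter.all false

set_option autoImplicit false
set_option linter.unusedSectionVars false

/-!
Adjoints for the standard unitary form; on an adjoint-closed field subalgebra of degree `n` (odd) in the algebra of
`n × n` matrices over the field with `q²` elements the adjoint map is `x ↦ x ^ (q ^ n)`.
-/

namespace Cfsg.Agent.H907

open Cfsg Cfsg.Geo Matrix Cfsg.Agent.LieClassical.HermBasic
open scoped MatrixGroups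

/-- conjugate transpose with respect to `x ↦ x ^ q` -/
def ct {F : Type*} [Field F] {n : ℕ} (q : ℕ) (A : Matrix (Fin n) (Fin n) F) : Matrix (Fin n) (Fin n) F :=
  Matrix.of fun i j => (A j i) ^ q

section ct

variable {F : Type*} [Field F] [Fintype F] {n q : ℕ} (hF : Fintype.card F = q ^ 2)
include hF

theorem herm_ct (A : Matrix (Fin n) (Fin n) F) (u v : Fin n → F) :
    hermForm n F q (A *ᵥ u) v = hermForm n F q u (ct q A *ᵥ v) := by
  simp only [herm_def, Matrix.mulVec, dotProduct, ct, Matrix.of_apply]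
  simp_rw [sum_pow_q hF, mul_pow, pow_q_pow_q hF, Finset.sum_mul, Finset.mul_sum]
  rw [Finset.sum_comm]
  apply Finset.sum_congr rfl
  intro i _
  apply Finset.sum_congr rfl
  intro j _
  ring

theorem ct_add (A B : Matrix (Fin n) (Fin n) F) : ct q (A + B) = ct q A + ct q B := by
  ext i j; simp [ct, add_pow_q hF]

theorem ct_mul (A B : Matrix (Fin n) (Fin n) F) : ct q (A * B) = ct q B * ct q A := by
  ext i j
  simp only [ct, Matrix.mul_apply, Matrix.of_apply]
  rw [sum_pow_q hF]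
  apply Finset.sum_congr rfl
  intro k _
  rw [mul_pow, mul_comm]

theorem ct_ct (A : Matrix (Fin n) (Fin n) F) : ct q (ct q A) = A := by
  ext i j; simp [ct, pow_q_pow_q hF]

theorem ct_smul_one (c : F) : ct q (c • (1 : Matrix (Fin n) (Fin n) F)) = c ^ q • 1 := by
  ext i j
  simp only [ct, Matrix.smul_apply, Matrix.of_apply, Matrix.one_apply, smul_eq_mul]
  rcases eq_or_ne i j with rfl | hij
  · simp
  · simp [hij, Ne.symm hij, zero_pow_q hF]

theorem ct_one : ct q (1 : Matrix (Fin n) (Fin n) F) = 1 := by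
  have := ct_smul_one hF (n := n) (1 : F)
  simpa using this

theorem ct_zero : ct q (0 : Matrix (Fin n) (Fin n) F) = 0 := by
  ext i j; simp [ct, zero_pow_q hF]

theorem ext_of_herm {A B : Matrix (Fin n) (Fin n) F}
    (h : ∀ u v, hermForm n F q u (A *ᵥ v) = hermForm n F q u (B *ᵥ v)) : A = B := by
  apply ext_mulVec
  intro v
  have h1 : A *ᵥ v - B *ᵥ v = 0 := by
    by_contra h0
    obtain ⟨x, hx⟩ := exists_herm_ne_zero hF h0
    have h2 : hermForm n F q x (A *ᵥ v - B *ᵥ v) = 0 := by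
      rw [herm_sub_right hF, h, sub_self]
    exact hx (herm_eq_zero_swap hF h2)
  exact sub_eq_zero.1 h1

theorem mem_GU_iff_ct {g : GL (Fin n) F} : g ∈ Cfsg.GU n F q ↔
    ct q (g : Matrix (Fin n) (Fin n) F) * (g : Matrix (Fin n) (Fin n) F) = 1 := by
  rw [Cfsg.Agent.H918.mem_GU]
  constructor
  · intro h
    apply ext_of_herm hF
    intro u v
    rw [← Matrix.mulVec_mulVec, ← herm_ct hF, h, Matrix.one_mulVec]
  · intro h u v
    rw [herm_ct hF, Matrix.mulVec_mulVec, h, Matrix.one_mulVec]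

theorem ct_mem {K : Subalgebra F (Matrix (Fin n) (Fin n) F)} (hK : IsAdjointClosedFor (hermForm n F q) K)
    {k : Matrix (Fin n) (Fin n) F} (hk : k ∈ K) : ct q k ∈ K := by
  obtain ⟨k', hk', h⟩ := hK k hk
  have : ct q k = k' := by
    apply ext_of_herm hF
    intro u v
    rw [← herm_ct hF, h]
  rw [this]; exact hk'

end ct

section adj

variable {F : Type*} [Field F] [Fintype F] {n q : ℕ} (hF : Fintype.card F = q ^ 2)
  {K : Subalgebra F (Matrix (Fin n) (Fin n) F)} (hK : IsFieldSubalgebra n K)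
  (hadj : IsAdjointClosedFor (hermForm n F q) K)
include hF hK hadj

theorem ct_eq_pow [NeZero n] {k : Matrix (Fin n) (Fin n) F} (hk : k ∈ K) : ct q k = k ^ (q ^ n) := by
  let _ := (isField_of hK).toField
  have hfin : Finite K := inferInstance
  let σ : K ≃+* K :=
    { toFun := fun x => ⟨ct q (x : Matrix (Fin n) (Fin n) F), ct_mem hF hadj x.2⟩
      invFun := fun x => ⟨ct q (x : Matrix (Fin n) (Fin n) F), ct_mem hF hadj x.2⟩
      left_inv := fun x => Subtype.ext (ct_ct hF _)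
      right_inv := fun x => Subtype.ext (ct_ct hF _)
      map_mul' := fun x y => Subtype.ext (by
        show ct q ((x : Matrix (Fin n) (Fin n) F) * (y : Matrix (Fin n) (Fin n) F)) =
          ct q (x : Matrix (Fin n) (Fin n) F) * ct q (y : Matrix (Fin n) (Fin n) F)
        rw [hK.comm _ x.2 _ y.2, ct_mul hF])
      map_add' := fun x y => Subtype.ext (ct_add hF _ _) }
  have hσ2 : ∀ a, σ (σ a) = a := fun a => Subtype.ext (ct_ct hF _)
  have hσ : σ ≠ RingEquiv.refl K := by
    intro h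
    obtain ⟨c, hc⟩ := exists_not_fixed hF
    apply hc
    have h1 := congrArg (fun τ : K ≃+* K => ((τ ⟨c • 1, K.smul_mem K.one_mem c⟩ : K) : Matrix (Fin n) (Fin n) F)) h
    have h2 : ct q (c • (1 : Matrix (Fin n) (Fin n) F)) = c • 1 := h1
    rw [ct_smul_one hF] at h2
    have h3 := congrFun (congrFun h2 0) 0
    simpa using h3
  have hq := two_le hF
  have hcard : Nat.card (Cfsg.Agent.H914.fixedBy σ) = q ^ n := by
    have h1 := Cfsg.Agent.H914.card_eq_card_fixedBy_sq hσ hσ2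
    have h2 : Nat.card K = (q ^ n) ^ 2 := by
      rw [card_K hK, hF, ← pow_mul, ← pow_mul, mul_comm]
    rw [h2] at h1
    exact (Nat.pow_left_injective two_ne_zero h1).symm
  have hfix : ∀ x : K, σ x = x ↔ x ^ (q ^ n) = x := by
    intro x
    rw [← hcard]
    exact Cfsg.Agent.H914.mem_subfield_iff_pow (Cfsg.Agent.H914.fixedBy σ) x
  obtain ⟨p, e, hp, hpF, hqe, -⟩ := exists_prime_pow hF
  have hpK : CharP K p := charP_of_injective_algebraMap (algebraMap F K).injective p
  have : Fact p.Prime := ⟨hp⟩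
  have hadd : ∀ x y : K, (x + y) ^ (q ^ n) = x ^ (q ^ n) + y ^ (q ^ n) := by
    intro x y
    rw [hqe, ← pow_mul]
    exact add_pow_char_pow x y p (e * n)
  let x : K := ⟨k, hk⟩
  let s : K := x + σ x
  let m : K := x * σ x
  have hs : s ^ (q ^ n) = s := (hfix s).1 (by simp only [s, map_add, hσ2]; rw [add_comm])
  have hm : m ^ (q ^ n) = m := (hfix m).1 (by simp only [m, map_mul, hσ2]; rw [mul_comm])
  have h0 : x ^ 2 + m = s * x := by simp only [s, m]; ring
  have h1 : (x ^ (q ^ n)) ^ 2 + m = s * x ^ (q ^ n) := by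
    have h2 := congrArg (fun z => z ^ (q ^ n)) h0
    simp only [hadd, mul_pow, hs, hm] at h2
    rw [← h2, ← pow_mul, ← pow_mul, mul_comm]
  have h3 : (x ^ (q ^ n) - x) * (x ^ (q ^ n) - σ x) = 0 := by
    have : (x ^ (q ^ n) - x) * (x ^ (q ^ n) - σ x) = (x ^ (q ^ n)) ^ 2 + m - s * x ^ (q ^ n) := by
      simp only [s, m]; ring
    rw [this, h1, sub_self]
  have h4 : σ x = x ^ (q ^ n) := by
    rcases mul_eq_zero.1 h3 with h | h
    · have h5 := sub_eq_zero.1 h
      rw [h5]
      exact (hfix x).2 h5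
    · exact (sub_eq_zero.1 h).symm
  exact congrArg Subtype.val h4

/-- elements of `K` in the unitary group -/
theorem mem_GU_iff_pow [NeZero n] {g : GL (Fin n) F} (hg : (g : Matrix (Fin n) (Fin n) F) ∈ K) :
    g ∈ Cfsg.GU n F q ↔ g ^ (q ^ n + 1) = 1 := by
  rw [mem_GU_iff_ct hF, ct_eq_pow hF hK hadj hg, ← pow_succ, ← Units.val_pow_eq_pow_val, Units.val_eq_one]

end adj

section three

variable {F : Type*} [Field F] [Fintype F] {q : ℕ} (hF : Fintype.card F = q ^ 2)
  {K : Subalgebra F (Matrix (Fin 3) (Fin 3) F)} (hK : IsFieldSubalgebra 3 K)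
  (hadj : IsAdjointClosedFor (hermForm 3 F q) K)
include hF hK hadj

/-- elements of `K` in the special unitary group -/
theorem pow_eq_one_of_mem_SU {g : GL (Fin 3) F} (hg : (g : Matrix (Fin 3) (Fin 3) F) ∈ K)
    (hgS : g ∈ Cfsg.Agent.H918.SUg 3 F q) : g ^ (q ^ 2 - q + 1) = 1 := by
  have h1 := (mem_GU_iff_pow hF hK hadj hg).1 hgS.1
  have h2 := pow_eq_det (K := K) (by rw [Fintype.card_fin]; exact hK) hg
  rw [(Cfsg.Agent.H918.mem_SUg.1 hgS).2, one_smul, hF, Fintype.card_fin] at h2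
  have hq := two_le hF
  have h3 : ((q ^ 2) ^ 3 - 1) / (q ^ 2 - 1) = q ^ 4 + q ^ 2 + 1 := by
    apply Nat.div_eq_of_eq_mul_left
    · have : 2 ^ 2 ≤ q ^ 2 := Nat.pow_le_pow_left hq 2
      omega
    · obtain ⟨m, hm⟩ : ∃ m, q ^ 2 = m + 1 := ⟨q ^ 2 - 1, by
        have : 2 ^ 2 ≤ q ^ 2 := Nat.pow_le_pow_left hq 2
        omega⟩
      have h4 : q ^ 4 = (m + 1) ^ 2 := by rw [← hm]; ring
      rw [h4, hm]
      have : (m + 1) ^ 3 - 1 = ((m + 1) ^ 2 + (m + 1) + 1) * m := by
        have : (m + 1) ^ 3 = ((m + 1) ^ 2 + (m + 1) + 1) * m + 1 := by ring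
        omega
      simpa using this
  rw [h3] at h2
  have h5 : g ^ (q ^ 4 + q ^ 2 + 1) = 1 := Units.ext (by rw [Units.val_pow_eq_pow_val, h2, Units.val_one])
  have h6 : q ^ 4 + q ^ 2 + 1 = (q ^ 2 - q + 1) + (q ^ 3 + 1) * q := by
    have h7 : q ≤ q ^ 2 := by nlinarith
    zify [h7]
    ring
  rw [h6, pow_add, pow_mul, h1, one_pow, mul_one] at h5
  exact h5

/-- existence of elements of prime order `r ∣ q³ + 1`, `r` prime to `q² - 1`. -/
theorem exists_orderOf_mem_SU {r : ℕ} (hr : r.Prime) (h1 : r ∣ q ^ 3 + 1) (h2 : ¬ r ∣ q ^ 2 - 1) :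
    ∃ g : GL (Fin 3) F, (g : Matrix (Fin 3) (Fin 3) F) ∈ K ∧ g ∈ Cfsg.Agent.H918.SUg 3 F q ∧ orderOf g = r := by
  have hfin : Finite (KU hK) := inferInstance
  have : Fact r.Prime := ⟨hr⟩
  have hcard := card_KU hK
  have h3 : r ∣ Nat.card (KU hK) := by
    rw [hcard, hF]
    have h4 : (q ^ 2) ^ 3 - 1 = (q ^ 3 + 1) * (q ^ 3 - 1) := by
      have : (q ^ 2) ^ 3 = (q ^ 3) ^ 2 := by ring
      rw [this]
      have := Nat.sq_sub_sq (q ^ 3) 1
      simpa using this
    rw [h4]
    exact dvd_mul_of_dvd_left h1 _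
  obtain ⟨g, hg⟩ := exists_prime_orderOf_dvd_card' r h3
  have hgo : orderOf (g : GL (Fin 3) F) = r := by
    rw [← hg]
    exact orderOf_injective (KU hK).subtype (Subgroup.subtype_injective _) g
  refine ⟨g, g.2, Subgroup.mem_inf.2 ⟨?_, ?_⟩, hgo⟩
  · rw [mem_GU_iff_pow hF hK hadj g.2]
    exact orderOf_dvd_iff_pow_eq_one.1 (by rw [hgo]; exact h1)
  · rw [Cfsg.Geo.specialLinear, MonoidHom.mem_ker]
    have h5 : orderOf (Matrix.GeneralLinearGroup.det (g : GL (Fin 3) F)) ∣ r := by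
      rw [← hgo]
      exact orderOf_map_dvd _ _
    rcases (Nat.dvd_prime hr).1 h5 with h | h
    · exact orderOf_eq_one_iff.1 h
    · exfalso
      apply h2
      rw [← h, ← hF]
      have := orderOf_dvd_natCard (Matrix.GeneralLinearGroup.det (g : GL (Fin 3) F))
      rwa [Nat.card_units, Nat.card_eq_fintype_card] at this

end three

end Cfsg.Agent.H907
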