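import Mathlib
import Cfsg.Agent.H907.SU3Conj
import Cfsg.Agent.H914.Uni
import Cfsg.Agent.H907.SU3Mono
set_option linter.all false

-- part: H907/RealForm
section
set_option autoImplicit false
set_option linter.unusedSectionVars false

/-!
For `q` odd, a subfield structure of index two carrying the standard unitary form in dimension three is, up to a
scalar, spanned by an orthonormal basis over the subfield.
-/

namespace Cfsg.Agent.H907.SU3

open Cfsg Cfsg.Geo Matrix Cfsg.Agent.H907 Cfsg.Agent.H918 Cfsg.Agent.LieClassical.HermBasic Cfsg.Agent.H914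
open scoped MatrixGroups

/-- Binary quadratic forms over a finite field of odd order are universal. -/
theorem exists_two_sq {K : Type*} [Field K] [Finite K] (h2 : (2 : K) ≠ 0) {a b : K} (ha : a ≠ 0) (hb : b ≠ 0) (c : K) :
    ∃ s t : K, a * s ^ 2 + b * t ^ 2 = c := by
  have := Fintype.ofFinite K
  have hodd : Fintype.card K % 2 = 1 := FiniteField.odd_card_of_char_ne_two (by
    intro h
    apply h2
    have := ringChar.Nat.cast_ringChar (R := K)
    rw [h] at this
    exact_mod_cast this)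
  obtain ⟨s, t, h⟩ := FiniteField.exists_root_sum_quadratic (f := Polynomial.C a * Polynomial.X ^ 2)
    (g := Polynomial.C b * Polynomial.X ^ 2 - Polynomial.C c)
    (Polynomial.degree_C_mul_X_pow 2 ha)
    (by
      rw [Polynomial.degree_sub_eq_left_of_degree_lt]
      · exact Polynomial.degree_C_mul_X_pow 2 hb
      · rw [Polynomial.degree_C_mul_X_pow 2 hb]
        exact (Polynomial.degree_C_le).trans_lt (by norm_num)) hodd
  refine ⟨s, t, ?_⟩
  simp at h
  linear_combination h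

variable {F : Type*} [Field F] [Fintype F] {q : ℕ}

theorem mem_F₀_iff (hF : Fintype.card F = q ^ 2) {F₀ : Subfield F} (hc : Fintype.card F = Nat.card F₀ ^ 2) (x : F) :
    x ∈ F₀ ↔ x ^ q = x := by
  have h1 : Nat.card F₀ = q := by
    rw [hF] at hc
    exact (Nat.pow_left_injective two_ne_zero hc).symm
  rw [mem_subfield_iff_pow, h1]

/-- entries fixed by `x ↦ x ^ q` -/
def Fixed (q : ℕ) (U : Matrix (Fin 3) (Fin 3) F) : Prop := ∀ i j, U i j ^ q = U i j

theorem Fixed.mul (hF : Fintype.card F = q ^ 2) {U W : Matrix (Fin 3) (Fin 3) F} (hU : Fixed q U) (hW : Fixed q W) :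
    Fixed q (U * W) := by
  intro i j
  rw [Matrix.mul_apply, sum_pow_q hF]
  exact Finset.sum_congr rfl fun k _ => by rw [mul_pow, hU, hW]

theorem Fixed.inv (hF : Fintype.card F = q ^ 2) {U : GL (Fin 3) F} (hU : Fixed q (U : Matrix (Fin 3) (Fin 3) F)) :
    Fixed q ((U⁻¹ : GL (Fin 3) F) : Matrix (Fin 3) (Fin 3) F) := by
  have h1 : Matrix.GeneralLinearGroup.map ((conj hF : F →+* F)) U = U := by
    apply Units.ext
    ext i j
    exact hU i j
  have h2 : Matrix.GeneralLinearGroup.map ((conj hF : F →+* F)) U⁻¹ = U⁻¹ := by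
    rw [map_inv, h1]
  intro i j
  exact congrArg (fun z : GL (Fin 3) F => (z : Matrix (Fin 3) (Fin 3) F) i j) h2

/-- Changing the basis by a matrix with entries in the subfield does not change the subfield group. -/
theorem subfieldSubgroup_mul (hF : Fintype.card F = q ^ 2) {F₀ : Subfield F} (hc : Fintype.card F = Nat.card F₀ ^ 2)
    (P U : GL (Fin 3) F) (hU : Fixed q (U : Matrix (Fin 3) (Fin 3) F)) :
    subfieldSubgroup F₀ (P * U) = subfieldSubgroup F₀ P := by
  ext g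
  rw [mem_subfieldSubgroup_iff, mem_subfieldSubgroup_iff]
  have key : ∀ (c : F) (A : Matrix (Fin 3) (Fin 3) F) (W : GL (Fin 3) F), Fixed q (W : Matrix (Fin 3) (Fin 3) F) →
      (∀ i j, c * A i j ∈ F₀) →
      ∀ i j, c * (((W⁻¹ : GL (Fin 3) F) : Matrix (Fin 3) (Fin 3) F) * A * (W : Matrix (Fin 3) (Fin 3) F)) i j ∈ F₀ := by
    intro c A W hW hA i j
    have h1 : Fixed q (c • A) := fun i j => (mem_F₀_iff hF hc _).1 (hA i j)
    have h2 : Fixed q (((W⁻¹ : GL (Fin 3) F) : Matrix (Fin 3) (Fin 3) F) * (c • A) * (W : Matrix (Fin 3) (Fin 3) F)) :=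
      (Fixed.mul hF (Fixed.mul hF (Fixed.inv hF hW) h1) hW)
    rw [mem_F₀_iff hF hc]
    have h3 := h2 i j
    rw [Matrix.mul_smul, Matrix.smul_mul] at h3
    exact h3
  constructor
  · rintro ⟨c, hc0, h⟩
    refine ⟨c, hc0, ?_⟩
    have h1 := key c _ U⁻¹ (Fixed.inv hF hU) h
    have h2 : (((U⁻¹)⁻¹ : GL (Fin 3) F) : Matrix (Fin 3) (Fin 3) F) *
        (((P * U)⁻¹ * g * (P * U) : GL (Fin 3) F) : Matrix (Fin 3) (Fin 3) F) *
        ((U⁻¹ : GL (Fin 3) F) : Matrix (Fin 3) (Fin 3) F) = ((P⁻¹ * g * P : GL (Fin 3) F) : Matrix (Fin 3) (Fin 3) F) := by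
      rw [← Units.val_mul, ← Units.val_mul]
      congr 1
      group
    rwa [h2] at h1
  · rintro ⟨c, hc0, h⟩
    refine ⟨c, hc0, ?_⟩
    have h1 := key c _ U hU h
    have h2 : ((U⁻¹ : GL (Fin 3) F) : Matrix (Fin 3) (Fin 3) F) *
        ((P⁻¹ * g * P : GL (Fin 3) F) : Matrix (Fin 3) (Fin 3) F) *
        (U : Matrix (Fin 3) (Fin 3) F) = (((P * U)⁻¹ * g * (P * U) : GL (Fin 3) F) : Matrix (Fin 3) (Fin 3) F) := by
      rw [← Units.val_mul, ← Units.val_mul]
      congr 1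
      group
    rwa [h2] at h1

/-- The vectors in the `F₀`-structure of `P`. -/
def InV (F₀ : Subfield F) (P : GL (Fin 3) F) (w : Fin 3 → F) : Prop :=
  ∃ u : Fin 3 → F, (∀ i, u i ∈ F₀) ∧ w = (P : Matrix (Fin 3) (Fin 3) F) *ᵥ u

theorem InV.comb {F₀ : Subfield F} {P : GL (Fin 3) F} {w w' : Fin 3 → F} (h : InV F₀ P w) (h' : InV F₀ P w')
    {a b : F} (ha : a ∈ F₀) (hb : b ∈ F₀) : InV F₀ P (a • w + b • w') := by
  obtain ⟨u, hu, rfl⟩ := h
  obtain ⟨u', hu', rfl⟩ := h'
  refine ⟨a • u + b • u', fun i => F₀.add_mem (F₀.mul_mem ha (hu i)) (F₀.mul_mem hb (hu' i)), ?_⟩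
  rw [Matrix.mulVec_add, Matrix.mulVec_smul, Matrix.mulVec_smul]

theorem InV.smul {F₀ : Subfield F} {P : GL (Fin 3) F} {w : Fin 3 → F} (h : InV F₀ P w)
    {a : F} (ha : a ∈ F₀) : InV F₀ P (a • w) := by
  have := h.comb h ha F₀.zero_mem
  simpa using this

/-- two orthogonal vectors of norms `a`, `b` give two of norms `c`, `abc`. -/
theorem pair_step (hF : Fintype.card F = q ^ 2) {F₀ : Subfield F} (hc : Fintype.card F = Nat.card F₀ ^ 2)
    (h2 : (2 : F) ≠ 0) {P : GL (Fin 3) F} {x y : Fin 3 → F} (hx : InV F₀ P x) (hy : InV F₀ P y) {a b c : F}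
    (hxx : hermForm 3 F q x x = a) (hyy : hermForm 3 F q y y = b) (hxy : hermForm 3 F q x y = 0)
    (ha : a ∈ F₀) (hb : b ∈ F₀) (hcm : c ∈ F₀) (ha0 : a ≠ 0) (hb0 : b ≠ 0) :
    ∃ s t s' t' : F, InV F₀ P (s • x + t • y) ∧ InV F₀ P (s' • x + t' • y) ∧
      hermForm 3 F q (s • x + t • y) (s • x + t • y) = c ∧
      hermForm 3 F q (s' • x + t' • y) (s' • x + t' • y) = a * b * c ∧
      hermForm 3 F q (s • x + t • y) (s' • x + t' • y) = 0 := by
  have h2' : (2 : F₀) ≠ 0 := by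
    intro h
    apply h2
    have := congrArg F₀.subtype h
    rwa [map_ofNat, map_zero] at this
  obtain ⟨⟨s, hs⟩, ⟨t, ht⟩, hst⟩ := exists_two_sq h2' (a := ⟨a, ha⟩) (b := ⟨b, hb⟩)
    (fun h => ha0 (congrArg Subtype.val h)) (fun h => hb0 (congrArg Subtype.val h)) ⟨c, hcm⟩
  have hst' : a * s ^ 2 + b * t ^ 2 = c := congrArg Subtype.val hst
  have hyx : hermForm 3 F q y x = 0 := herm_eq_zero_swap hF hxy
  have fs : s ^ q = s := (mem_F₀_iff hF hc _).1 hs
  have ft : t ^ q = t := (mem_F₀_iff hF hc _).1 ht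
  have fa : a ^ q = a := (mem_F₀_iff hF hc _).1 ha
  have fb : b ^ q = b := (mem_F₀_iff hF hc _).1 hb
  have hform : ∀ s t s' t' : F, s' ^ q = s' → t' ^ q = t' →
      hermForm 3 F q (s • x + t • y) (s' • x + t' • y) = a * s * s' + b * t * t' := by
    intro s t s' t' h1 h2
    rw [herm_add_left, herm_add_right hF, herm_add_right hF, herm_smul_left, herm_smul_left, herm_smul_left,
      herm_smul_left, herm_smul_right, herm_smul_right, herm_smul_right, herm_smul_right, hxx, hyy, hxy, hyx, h1, h2]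
    ring
  have fbt : (-(b * t)) ^ q = -(b * t) := by rw [neg_pow_q hF, mul_pow, fb, ft]
  have fas : (a * s) ^ q = a * s := by rw [mul_pow, fa, fs]
  refine ⟨s, t, -(b * t), a * s, hx.comb hy hs ht, hx.comb hy (F₀.neg_mem (F₀.mul_mem hb ht)) (F₀.mul_mem ha hs),
    ?_, ?_, ?_⟩
  · rw [hform _ _ _ _ fs ft, ← hst']; ring
  · rw [hform _ _ _ _ fbt fas, ← hst']; ring
  · rw [hform _ _ _ _ fbt fas]; ring

theorem herm_mem {F₀ : Subfield F} {P : GL (Fin 3) F}
    (hP : IsFormRationalStructure (hermForm 3 F q) F₀ 1 P) {x y : Fin 3 → F} (hx : InV F₀ P x) (hy : InV F₀ P y) :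
    hermForm 3 F q x y ∈ F₀ := by
  obtain ⟨u, hu, rfl⟩ := hx
  obtain ⟨v, hv, rfl⟩ := hy
  have := hP u v hu hv
  rwa [one_mul] at this

/-- an orthogonal basis of the `F₀`-structure, of non-isotropic vectors -/
theorem exists_orth_basis (hF : Fintype.card F = q ^ 2) {F₀ : Subfield F} (hc : Fintype.card F = Nat.card F₀ ^ 2)
    (h2 : (2 : F) ≠ 0) {P : GL (Fin 3) F} (hP : IsFormRationalStructure (hermForm 3 F q) F₀ 1 P) :
    ∃ f : Fin 3 → Fin 3 → F, (∀ i, InV F₀ P (f i)) ∧ (∀ i j, i ≠ j → hermForm 3 F q (f i) (f j) = 0) ∧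
      ∀ i, hermForm 3 F q (f i) (f i) ≠ 0 := by
  classical
  have h2' : (2 : F₀) ≠ 0 := by
    intro h
    apply h2
    have := congrArg F₀.subtype h
    rwa [map_ofNat, map_zero] at this
  let up : (Fin 3 → F₀) → (Fin 3 → F) := fun u i => (u i : F)
  have hup : ∀ u, InV F₀ P ((P : Matrix (Fin 3) (Fin 3) F) *ᵥ up u) := fun u => ⟨up u, fun i => (u i).2, rfl⟩
  have up_add : ∀ u v, up (u + v) = up u + up v := fun u v => by ext i; simp [up]
  have up_smul : ∀ (c : F₀) v, up (c • v) = (c : F) • up v := fun c v => by ext i; simp [up]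
  let B : LinearMap.BilinForm F₀ (Fin 3 → F₀) := LinearMap.mk₂ F₀
    (fun u v => (⟨hermForm 3 F q ((P : Matrix (Fin 3) (Fin 3) F) *ᵥ up u) ((P : Matrix (Fin 3) (Fin 3) F) *ᵥ up v),
      herm_mem hP (hup u) (hup v)⟩ : F₀))
    (fun u u' v => Subtype.ext (by
      simp only [up_add, Matrix.mulVec_add, herm_add_left]; rfl))
    (fun c u v => Subtype.ext (by
      simp only [up_smul, Matrix.mulVec_smul, herm_smul_left]; rfl))
    (fun u v v' => Subtype.ext (by
      simp only [up_add, Matrix.mulVec_add, herm_add_right hF]; rfl))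
    (fun c u v => Subtype.ext (by
      simp only [up_smul, Matrix.mulVec_smul, herm_smul_right, (mem_F₀_iff hF hc _).1 c.2]; rfl))
  have hB : ∀ u v, ((B u v : F₀) : F) =
      hermForm 3 F q ((P : Matrix (Fin 3) (Fin 3) F) *ᵥ up u) ((P : Matrix (Fin 3) (Fin 3) F) *ᵥ up v) := fun u v => rfl
  have hsymm : LinearMap.IsSymm B := by
    refine ⟨fun u v => Subtype.ext ?_⟩
    show ((B u v : F₀) : F) = ((B v u : F₀) : F)
    rw [hB, hB, herm_swap hF]
    exact (mem_F₀_iff hF hc _).1 (herm_mem hP (hup v) (hup u))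
  let _ : Invertible (2 : F₀) := invertibleOfNonzero h2'
  obtain ⟨v, hv⟩ := LinearMap.BilinForm.exists_orthogonal_basis hsymm
  have hfr : Module.finrank F₀ (Fin 3 → F₀) = 3 := by simp
  let e : Fin 3 ≃ Fin (Module.finrank F₀ (Fin 3 → F₀)) := (finCongr hfr).symm
  refine ⟨fun i => (P : Matrix (Fin 3) (Fin 3) F) *ᵥ up (v (e i)), fun i => hup _, ?_, ?_⟩
  · intro i j hij
    rw [← hB]
    have : B (v (e i)) (v (e j)) = 0 := hv (fun h => hij (e.injective h))
    rw [this]; rfl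
  · intro i h0
    have h3 : ∀ w, B (v (e i)) w = 0 := by
      have h4 : B (v (e i)) = 0 := by
        apply v.ext
        intro j
        by_cases hj : j = e i
        · subst hj
          exact Subtype.ext (by rw [hB, h0]; rfl)
        · exact hv (Ne.symm hj)
      intro w
      rw [h4]; rfl
    have h5 : (P : Matrix (Fin 3) (Fin 3) F) *ᵥ up (v (e i)) = 0 := by
      by_contra hne
      obtain ⟨x, hx⟩ := exists_herm_ne_zero hF hne
      apply hx
      -- `x = P y`, `y` a combination of basis vectors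
      have h6 : x = ∑ k, (((P⁻¹ : GL (Fin 3) F) : Matrix (Fin 3) (Fin 3) F) *ᵥ x) k •
          ((P : Matrix (Fin 3) (Fin 3) F) *ᵥ up (Pi.single k 1)) := by
        have h7 : ∀ k, up (Pi.single k 1) = Pi.single k 1 := by
          intro k; ext l
          by_cases hkl : l = k
          · subst hkl; simp [up]
          · simp [up, hkl]
        simp_rw [h7, ← Matrix.mulVec_smul]
        rw [← Matrix.mulVec_sum]
        have h8 : ∀ y : Fin 3 → F, ∑ k, y k • (Pi.single k 1 : Fin 3 → F) = y := by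
          intro y; ext l; simp [Finset.sum_apply, Pi.single_apply]
        rw [h8, mulVec_inv_mulVec]
      rw [h6, herm_sum_right hF]
      apply Finset.sum_eq_zero
      intro k _
      rw [herm_smul_right, ← hB, h3]
      simp
    have h6 : up (v (e i)) = 0 := by
      apply mulVec_injective P
      show (P : Matrix (Fin 3) (Fin 3) F) *ᵥ _ = (P : Matrix (Fin 3) (Fin 3) F) *ᵥ _
      rw [h5, Matrix.mulVec_zero]
    apply v.ne_zero (e i)
    ext k
    exact congrFun h6 k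

/-- a basis of the `F₀`-structure with scalar Gram matrix -/
theorem exists_scalar_basis (hF : Fintype.card F = q ^ 2) {F₀ : Subfield F} (hc : Fintype.card F = Nat.card F₀ ^ 2)
    (h2 : (2 : F) ≠ 0) {P : GL (Fin 3) F} (hP : IsFormRationalStructure (hermForm 3 F q) F₀ 1 P) :
    ∃ (w : Fin 3 → Fin 3 → F) (d : F), d ∈ F₀ ∧ d ≠ 0 ∧ (∀ i, InV F₀ P (w i)) ∧
      ∀ i j, hermForm 3 F q (w i) (w j) = if i = j then d else 0 := by
  obtain ⟨f, hfV, hf, hf0⟩ := exists_orth_basis hF hc h2 hP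
  obtain ⟨a0, ha0⟩ : ∃ a, a = hermForm 3 F q (f 0) (f 0) := ⟨_, rfl⟩
  obtain ⟨a1, ha1⟩ : ∃ a, a = hermForm 3 F q (f 1) (f 1) := ⟨_, rfl⟩
  obtain ⟨a2, ha2⟩ : ∃ a, a = hermForm 3 F q (f 2) (f 2) := ⟨_, rfl⟩
  have m0 : a0 ∈ F₀ := by rw [ha0]; exact herm_mem hP (hfV 0) (hfV 0)
  have m1 : a1 ∈ F₀ := by rw [ha1]; exact herm_mem hP (hfV 1) (hfV 1)
  have m2 : a2 ∈ F₀ := by rw [ha2]; exact herm_mem hP (hfV 2) (hfV 2)
  have n0 : a0 ≠ 0 := by rw [ha0]; exact hf0 0
  have n1 : a1 ≠ 0 := by rw [ha1]; exact hf0 1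
  have n2 : a2 ≠ 0 := by rw [ha2]; exact hf0 2
  obtain ⟨d, hd⟩ : ∃ d, d = a0 * a1 * a2 := ⟨_, rfl⟩
  have md : d ∈ F₀ := by rw [hd]; exact F₀.mul_mem (F₀.mul_mem m0 m1) m2
  have nd : d ≠ 0 := by rw [hd]; exact mul_ne_zero (mul_ne_zero n0 n1) n2
  obtain ⟨s, t, s', t', hx1, hy1, hx1n, hy1n, hxy1⟩ := pair_step hF hc h2 (hfV 0) (hfV 1) ha0.symm ha1.symm
    (hf 0 1 (by decide)) m0 m1 md n0 n1
  obtain ⟨x1, hx1d⟩ : ∃ x, x = s • f 0 + t • f 1 := ⟨_, rfl⟩
  obtain ⟨y1, hy1d⟩ : ∃ x, x = s' • f 0 + t' • f 1 := ⟨_, rfl⟩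
  have hx1f : hermForm 3 F q x1 (f 2) = 0 := by
    rw [hx1d, herm_add_left, herm_smul_left, herm_smul_left, hf 0 2 (by decide), hf 1 2 (by decide)]; simp
  have hy1f : hermForm 3 F q y1 (f 2) = 0 := by
    rw [hy1d, herm_add_left, herm_smul_left, herm_smul_left, hf 0 2 (by decide), hf 1 2 (by decide)]; simp
  rw [← hx1d] at hx1 hx1n hxy1
  rw [← hy1d] at hy1 hy1n hxy1
  obtain ⟨k, hk⟩ : ∃ k, k = (a0 * a1)⁻¹ := ⟨_, rfl⟩
  have mk : k ∈ F₀ := by rw [hk]; exact F₀.inv_mem (F₀.mul_mem m0 m1)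
  have fk : k ^ q = k := (mem_F₀_iff hF hc _).1 mk
  have hn01 : a0 * a1 ≠ 0 := mul_ne_zero n0 n1
  have hy2n : hermForm 3 F q (k • y1) (k • y1) = a2 := by
    rw [herm_smul_left, herm_smul_right, fk, hy1n, hd, hk]
    field_simp
  obtain ⟨u, v, u', v', hx3, hy3, hx3n, hy3n, hxy3⟩ := pair_step hF hc h2 (hy1.smul mk) (hfV 2) hy2n ha2.symm
    (by rw [herm_smul_left, hy1f, mul_zero]) m2 m2 md n2 n2
  obtain ⟨x3, hx3d⟩ : ∃ x, x = u • k • y1 + v • f 2 := ⟨_, rfl⟩
  obtain ⟨y3, hy3d⟩ : ∃ x, x = u' • k • y1 + v' • f 2 := ⟨_, rfl⟩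
  have h13 : hermForm 3 F q x1 x3 = 0 := by
    rw [hx3d, herm_add_right hF, herm_smul_right, herm_smul_right, herm_smul_right, hxy1, hx1f]; simp
  have h14 : hermForm 3 F q x1 y3 = 0 := by
    rw [hy3d, herm_add_right hF, herm_smul_right, herm_smul_right, herm_smul_right, hxy1, hx1f]; simp
  rw [← hx3d] at hx3 hx3n hxy3
  rw [← hy3d] at hy3 hy3n hxy3
  have m2i : a2⁻¹ ∈ F₀ := F₀.inv_mem m2
  have f2i : (a2⁻¹) ^ q = a2⁻¹ := (mem_F₀_iff hF hc _).1 m2i
  have hy4n : hermForm 3 F q (a2⁻¹ • y3) (a2⁻¹ • y3) = d := by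
    rw [herm_smul_left, herm_smul_right, f2i, hy3n]
    field_simp
  have h15 : hermForm 3 F q x1 (a2⁻¹ • y3) = 0 := by rw [herm_smul_right, h14, mul_zero]
  have h35 : hermForm 3 F q x3 (a2⁻¹ • y3) = 0 := by rw [herm_smul_right, hxy3, mul_zero]
  refine ⟨![x1, x3, a2⁻¹ • y3], d, md, nd, ?_, ?_⟩
  · intro i
    fin_cases i
    · exact hx1
    · exact hx3
    · exact hy3.smul m2i
  · intro i j
    fin_cases i <;> fin_cases j
    · simpa using hx1n
    · simpa using h13
    · simpa using h15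
    · simpa using herm_eq_zero_swap hF h13
    · simpa using hx3n
    · simpa using h35
    · simpa using herm_eq_zero_swap hF h15
    · simpa using herm_eq_zero_swap hF h35
    · simpa using hy4n

/-- An index two subfield structure carrying the form is spanned, up to a scalar, by an orthonormal basis. -/
theorem exists_real_frame (hF : Fintype.card F = q ^ 2) {F₀ : Subfield F} (hc : Fintype.card F = Nat.card F₀ ^ 2)
    (h2 : (2 : F) ≠ 0) {P : GL (Fin 3) F} (hP : IsFormRationalStructure (hermForm 3 F q) F₀ 1 P) :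
    ∃ P' ∈ Cfsg.GU 3 F q, subfieldSubgroup F₀ P = subfieldSubgroup F₀ P' := by
  obtain ⟨w, d, md, nd, hw, hwd⟩ := exists_scalar_basis hF hc h2 hP
  have hdi : (d⁻¹) ^ q = d⁻¹ := (mem_F₀_iff hF hc _).1 (F₀.inv_mem md)
  obtain ⟨μ, hμ0, hμ⟩ := exists_norm_eq_ne hF hdi (inv_ne_zero nd)
  obtain ⟨P', hP', hPw⟩ := exists_GU_of_orthonormal hF (fun i => μ • w i) (by
    intro i j
    rw [herm_smul_left, herm_smul_right, hwd, ← mul_assoc, hμ]
    split_ifs
    · exact inv_mul_cancel₀ nd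
    · rw [mul_zero])
  choose u hu hwu using hw
  refine ⟨P', hP', ?_⟩
  have hU : Fixed q ((scaleGL μ⁻¹ (inv_ne_zero hμ0) (P⁻¹ * P') : GL (Fin 3) F) : Matrix (Fin 3) (Fin 3) F) := by
    intro i j
    have h1 : ((scaleGL μ⁻¹ (inv_ne_zero hμ0) (P⁻¹ * P') : GL (Fin 3) F) : Matrix (Fin 3) (Fin 3) F) *ᵥ
        Pi.single j 1 = u j := by
      rw [scaleGL_val, Units.val_mul, Matrix.smul_mulVec, ← Matrix.mulVec_mulVec, hPw, Matrix.mulVec_smul, smul_smul,
        inv_mul_cancel₀ hμ0, one_smul, hwu, inv_mulVec_mulVec]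
    have h2 := congrFun h1 i
    rw [Matrix.mulVec_single_one, Matrix.col_apply] at h2
    rw [h2]
    exact (mem_F₀_iff hF hc _).1 (hu j i)
  have h3 := subfieldSubgroup_mul hF hc P _ hU
  rw [← h3]
  have h4 : P' = scaleGL μ hμ0 (P * scaleGL μ⁻¹ (inv_ne_zero hμ0) (P⁻¹ * P')) := by
    apply Units.ext
    rw [scaleGL_val, Units.val_mul, scaleGL_val, Matrix.mul_smul, smul_smul, mul_inv_cancel₀ hμ0, one_smul,
      ← Units.val_mul, mul_inv_cancel_left]
  conv_rhs => rw [h4]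
  rw [subfieldSubgroup_scaleGL]

end Cfsg.Agent.H907.SU3
end

-- part: H907/SU3Real
section
set_option autoImplicit false
set_option linter.unusedSectionVars false

/-!
The subfield class of index two in `SU_3(3)` and `SU_3(5)`.
-/

namespace Cfsg.Agent.H907.SU3

open Cfsg Cfsg.Geo Matrix Cfsg.Agent.H907 Cfsg.Agent.H918 Cfsg.Agent.LieClassical.HermBasic Cfsg.Agent.H914
  Cfsg.Agent.H907.Mdl
open scoped MatrixGroups

variable {F : Type*} [Field F] [Fintype F] {q : ℕ}

/-- The frame of a unitary matrix. -/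
theorem frame_decomp (hF : Fintype.card F = q ^ 2) {P : GL (Fin 3) F} (hP : P ∈ Cfsg.GU 3 F q) :
    IsNondegenerateMDecomposition (hermForm 3 F q) 1
      (fun i => F ∙ ((P : Matrix (Fin 3) (Fin 3) F) *ᵥ Pi.single i 1)) := by
  have hh : ∀ i j : Fin 3, hermForm 3 F q ((P : Matrix (Fin 3) (Fin 3) F) *ᵥ Pi.single i 1)
      ((P : Matrix (Fin 3) (Fin 3) F) *ᵥ Pi.single j 1) = if i = j then 1 else 0 := by
    intro i j
    rw [mem_GU.1 hP, herm_single_right hF]
    split_ifs with h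
    · subst h; simp
    · rw [Pi.single_eq_of_ne (Ne.symm h), zero_mul]
  have hne : ∀ i : Fin 3, (P : Matrix (Fin 3) (Fin 3) F) *ᵥ Pi.single i 1 ≠ 0 := by
    intro i h0
    have := hh i i
    rw [h0, herm_zero_left, if_pos rfl] at this
    exact zero_ne_one this
  have hli : LinearIndependent F (fun i : Fin 3 => (P : Matrix (Fin 3) (Fin 3) F) *ᵥ Pi.single i 1) := by
    rw [Fintype.linearIndependent_iff]
    intro g hg i
    have h1 : hermForm 3 F q (∑ i, g i • ((P : Matrix (Fin 3) (Fin 3) F) *ᵥ Pi.single i 1))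
        ((P : Matrix (Fin 3) (Fin 3) F) *ᵥ Pi.single i 1) = g i := by
      rw [herm_sum_left]
      simp_rw [herm_smul_left, hh]
      simp
    rw [← h1, hg, herm_zero_left]
  refine ⟨⟨by norm_num, by norm_num, fun i => finrank_span_singleton (hne i), hli.iSupIndep_span_singleton, ?_⟩,
    ?_, ?_⟩
  · rw [← Submodule.span_range_eq_iSup]
    exact hli.span_eq_top_of_card_eq_finrank' (by simp)
  · intro i w hw hw0
    rw [Submodule.mem_span_singleton] at hw
    obtain ⟨a, rfl⟩ := hw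
    have ha : a ≠ 0 := by rintro rfl; simp at hw0
    have h1 : hermForm 3 F q (a • ((P : Matrix (Fin 3) (Fin 3) F) *ᵥ Pi.single i 1))
        (a • ((P : Matrix (Fin 3) (Fin 3) F) *ᵥ Pi.single i 1)) ≠ 0 := by
      rw [herm_smul_left, herm_smul_right, hh, if_pos rfl, mul_one]
      exact mul_ne_zero ha (pow_ne_zero _ ha)
    have h2 : a • ((P : Matrix (Fin 3) (Fin 3) F) *ᵥ Pi.single i 1) ∈
        F ∙ ((P : Matrix (Fin 3) (Fin 3) F) *ᵥ Pi.single i 1) :=
      Submodule.smul_mem _ _ (Submodule.mem_span_singleton_self _)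
    exact ⟨⟨_, h2, h1⟩, ⟨_, h2, h1⟩⟩
  · intro i j hij u hu v hv
    rw [Submodule.mem_span_singleton] at hu hv
    obtain ⟨a, rfl⟩ := hu
    obtain ⟨b, rfl⟩ := hv
    rw [herm_smul_left, herm_smul_right, hh, if_neg hij, mul_zero, mul_zero]

/-- elements which are monomial in the basis `P` stabilise the frame of `P` -/
theorem mem_decomp_of_mono {P h : GL (Fin 3) F} (hm : IsMono (P⁻¹ * h * P)) :
    h ∈ decompositionStabilizer (fun i => F ∙ ((P : Matrix (Fin 3) (Fin 3) F) *ᵥ Pi.single i 1)) := by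
  obtain ⟨j, hj⟩ := hm
  have hinj := IsMono.injective hj
  refine ⟨Equiv.ofBijective j ((Fintype.bijective_iff_injective_and_card j).2 ⟨hinj, rfl⟩), fun i => ?_⟩
  obtain ⟨a, ha⟩ := hj i
  have h1 : (h : Matrix (Fin 3) (Fin 3) F) *ᵥ ((P : Matrix (Fin 3) (Fin 3) F) *ᵥ Pi.single i 1) =
      a • ((P : Matrix (Fin 3) (Fin 3) F) *ᵥ Pi.single (j i) 1) := by
    rw [Units.val_mul, Units.val_mul, ← Matrix.mulVec_mulVec, ← Matrix.mulVec_mulVec] at ha
    have : (P : Matrix (Fin 3) (Fin 3) F) *ᵥ (((P⁻¹ : GL (Fin 3) F) : Matrix (Fin 3) (Fin 3) F) *ᵥ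
        ((h : Matrix (Fin 3) (Fin 3) F) *ᵥ ((P : Matrix (Fin 3) (Fin 3) F) *ᵥ Pi.single i 1))) =
        (P : Matrix (Fin 3) (Fin 3) F) *ᵥ (a • Pi.single (j i) 1) := by rw [ha]
    rwa [mulVec_inv_mulVec, Matrix.mulVec_smul] at this
  have ha0 : a ≠ 0 := by
    rintro rfl
    rw [zero_smul] at ha
    have h2 : (Pi.single i 1 : Fin 3 → F) = 0 := mulVec_injective (P⁻¹ * h * P) (by
      show ((P⁻¹ * h * P : GL (Fin 3) F) : Matrix (Fin 3) (Fin 3) F) *ᵥ _ =
        ((P⁻¹ * h * P : GL (Fin 3) F) : Matrix (Fin 3) (Fin 3) F) *ᵥ _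
      rw [ha, Matrix.mulVec_zero])
    have h3 := congrFun h2 i
    simp at h3
  rw [Submodule.map_span, Set.image_singleton, Matrix.toLin'_apply, h1]
  exact Submodule.span_singleton_smul_eq (IsUnit.mk0 _ ha0) _

/-- elements of a subfield group, after conjugation -/
theorem exists_real_scale (hF : Fintype.card F = q ^ 2) {F₀ : Subfield F} (hc : Fintype.card F = Nat.card F₀ ^ 2)
    {P h : GL (Fin 3) F} (hP : P ∈ Cfsg.GU 3 F q) (hh : h ∈ subfieldSubgroup F₀ P) (hS : h ∈ SUg 3 F q) :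
    ∃ c : F, ∃ hc0 : c ≠ 0, Fixed q ((scaleGL c hc0 (P⁻¹ * h * P) : GL (Fin 3) F) : Matrix (Fin 3) (Fin 3) F) ∧
      (c ^ 3) ^ q = c ^ 3 ∧ P⁻¹ * h * P ∈ SUg 3 F q := by
  rw [mem_subfieldSubgroup_iff] at hh
  obtain ⟨c, hc0, h1⟩ := hh
  have hgS : P⁻¹ * h * P ∈ SUg 3 F q := by
    have := conj_mem_SUg hF (GU_le_similarityGroup hF (inv_mem hP)) hS
    simpa using this
  have hfix : Fixed q ((scaleGL c hc0 (P⁻¹ * h * P) : GL (Fin 3) F) : Matrix (Fin 3) (Fin 3) F) := by
    intro i j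
    rw [scaleGL_val, Matrix.smul_apply, smul_eq_mul]
    exact (mem_F₀_iff hF hc _).1 (h1 i j)
  refine ⟨c, hc0, hfix, ?_, hgS⟩
  have h2 : ((scaleGL c hc0 (P⁻¹ * h * P) : GL (Fin 3) F) : Matrix (Fin 3) (Fin 3) F).det = c ^ 3 := by
    rw [scaleGL_val, Matrix.det_smul, (mem_SUg.1 hgS).2, mul_one, Fintype.card_fin]
  rw [← h2, Matrix.det_fin_three]
  simp only [add_pow_q hF, sub_pow_q hF, mul_pow, hfix _ _]

/-- the subfield class of index two is not maximal in `SU_3(5)` -/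
theorem c5_excl_five (hF : Fintype.card F = 5 ^ 2) {F₀ : Subfield F} (hc : Fintype.card F = Nat.card F₀ ^ 2)
    {P : GL (Fin 3) F} (hP : IsFormRationalStructure (hermForm 3 F 5) F₀ 1 P)
    (hH : IsMaximalIn (SUg 3 F 5) (subfieldSubgroup F₀ P ⊓ SUg 3 F 5)) : False := by
  obtain ⟨θ, hg⟩ := exists_good5 hF
  have h5 : (5 : F) = 0 := by
    have := cast_p hg
    simp only [c5] at this
    exact_mod_cast this
  have h2 : (2 : F) ≠ 0 := by
    intro h
    have : (1 : F) = 0 := by linear_combination h5 - 2 * h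
    exact one_ne_zero this
  obtain ⟨P', hP', hPP⟩ := exists_real_frame hF hc h2 hP
  rw [hPP] at hH
  obtain ⟨X, hXS, hX⟩ := exists_SU hg hF (m := SU35.md1) (by decide +kernel)
  have hXL : X ∈ stab (lineSet θ SU35.S105) := mem_stab_of_chk hg SU35.okS105 SU35.chk_md1 hX
  apply excl hF hH hP' (L := stab (lineSet θ SU35.S105)) _ (SU35.exists_not_mem hg hF) ⟨X, hXS, hXL, ?_⟩
  · rintro h ⟨hh, hhS⟩
    obtain ⟨c, hc0, hfix, hc3, hgS⟩ := exists_real_scale hF hc hP' hh hhS
    have hc24 : c ^ 24 = 1 := by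
      have := FiniteField.pow_card_sub_one_eq_one c hc0
      rwa [hF] at this
    have hc12 : c ^ 12 = 1 := by
      have h3 : c ^ 3 * c ^ 12 = c ^ 3 * 1 := by rw [mul_one]; linear_combination hc3
      exact mul_left_cancel₀ (pow_ne_zero 3 hc0) h3
    have hc6 : c ^ 6 = 1 ∨ c ^ 6 = -1 := by
      have : (c ^ 6 - 1) * (c ^ 6 + 1) = 0 := by linear_combination hc12
      rcases mul_eq_zero.1 this with h | h
      · exact Or.inl (sub_eq_zero.1 h)
      · exact Or.inr (eq_neg_of_add_eq_zero_left h)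
    rcases hc6 with hc6 | hc6
    · rw [← SU35.scale_mem_stab hc0]
      apply SU35.real_mem hg hF _ hfix
      rw [mem_GU, scaleGL_val]
      intro u v
      rw [Matrix.smul_mulVec, Matrix.smul_mulVec, herm_smul_left, herm_smul_right, (mem_SUg.1 hgS).1]
      linear_combination (hermForm 3 F 5 u v) * hc6
    · have h2c : 2 * c ≠ 0 := mul_ne_zero h2 hc0
      rw [← SU35.scale_mem_stab h2c]
      apply SU35.real_mem hg hF
      · rw [mem_GU, scaleGL_val]
        intro u v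
        rw [Matrix.smul_mulVec, Matrix.smul_mulVec, herm_smul_left, herm_smul_right, (mem_SUg.1 hgS).1]
        linear_combination (64 * hermForm 3 F 5 u v) * hc6 - 13 * hermForm 3 F 5 u v * h5
      · intro i j
        have h3 := hfix i j
        rw [scaleGL_val, Matrix.smul_apply, smul_eq_mul] at h3 ⊢
        rw [mul_assoc, mul_pow, h3]
        have : (2 : F) ^ 5 = 2 := by linear_combination 6 * h5
        rw [this]
  · rintro ⟨hn, -⟩
    have hn' : P' * X * P'⁻¹ ∈ subfieldSubgroup F₀ P' := hn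
    rw [mem_subfieldSubgroup_iff] at hn'
    obtain ⟨c, hc0, h1⟩ := hn'
    have h3 : P'⁻¹ * (P' * X * P'⁻¹) * P' = X := by group
    rw [h3] at h1
    have e0 := h1 0 0
    have e2 := h1 2 2
    rw [hX] at e0 e2
    have h4 : toM θ SU35.md1 0 0 = -θ := by
      simp [toM, toV, SU35.md1, ev]; linear_combination θ * h5
    have h6 : toM θ SU35.md1 2 2 = 1 := by
      simp [toM, toV, SU35.md1, ev]
    rw [h4] at e0
    rw [h6, mul_one] at e2
    have h7 : -θ ∈ F₀ := by
      have := F₀.mul_mem (F₀.inv_mem e2) e0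
      rwa [inv_mul_cancel_left₀ hc0] at this
    have h8 : θ ∈ F₀ := by simpa using F₀.neg_mem h7
    obtain ⟨n, hn5, hn⟩ := SU35.exists_nat hg ((mem_F₀_iff hF hc θ).1 h8)
    have h9 := hg.indep n 4 hn5 (by decide) (by push_cast; rw [← hn]; linear_combination θ * h5)
    exact absurd h9.2 (by decide)

/-- the subfield class of index two in `SU_3(3)`: a frame stabiliser -/
theorem c5_three (hF : Fintype.card F = 3 ^ 2) {F₀ : Subfield F} (hc : Fintype.card F = Nat.card F₀ ^ 2)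
    {P : GL (Fin 3) F} (hP : IsFormRationalStructure (hermForm 3 F 3) F₀ 1 P) :
    ∃ D : Fin 3 → Submodule F (Fin 3 → F), IsNondegenerateMDecomposition (hermForm 3 F 3) 1 D ∧
      subfieldSubgroup F₀ P ⊓ SUg 3 F 3 ≤ decompositionStabilizer D := by
  obtain ⟨θ, hg⟩ := exists_good3 hF
  have h3 : (3 : F) = 0 := by
    have := cast_p hg
    simp only [c3] at this
    exact_mod_cast this
  have h2 : (2 : F) ≠ 0 := by
    intro h
    have : (1 : F) = 0 := by linear_combination h3 - h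
    exact one_ne_zero this
  obtain ⟨P', hP', hPP⟩ := exists_real_frame hF hc h2 hP
  refine ⟨_, frame_decomp hF hP', ?_⟩
  rw [hPP]
  rintro h ⟨hh, hhS⟩
  obtain ⟨c, hc0, hfix, hc3, hgS⟩ := exists_real_scale hF hc hP' hh hhS
  have hc8 : c ^ 8 = 1 := by
    have := FiniteField.pow_card_sub_one_eq_one c hc0
    rwa [hF] at this
  have hc6 : c ^ 6 = 1 := by
    have h3 : c ^ 3 * c ^ 6 = c ^ 3 * 1 := by rw [mul_one]; linear_combination hc3
    exact mul_left_cancel₀ (pow_ne_zero 3 hc0) h3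
  have hc4 : c ^ 4 = 1 := by
    linear_combination (c ^ 2 + 1) * (hc8 - c ^ 2 * hc6)
  apply mem_decomp_of_mono
  have hU : scaleGL c hc0 (P'⁻¹ * h * P') ∈ Cfsg.GU 3 F 3 := by
    rw [mem_GU, scaleGL_val]
    intro u v
    rw [Matrix.smul_mulVec, Matrix.smul_mulVec, herm_smul_left, herm_smul_right, (mem_SUg.1 hgS).1]
    linear_combination (hermForm 3 F 3 u v) * hc4
  have hcol := cols_of_mem_GU hF hU
  have hz : ∀ x : F, x ^ 3 = x → x = 0 ∨ x * x = 1 := by
    intro x hx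
    have : x * (x * x - 1) = 0 := by linear_combination hx
    rcases mul_eq_zero.1 this with h | h
    · exact Or.inl h
    · exact Or.inr (sub_eq_zero.1 h)
  have hmono : IsMono (scaleGL c hc0 (P'⁻¹ * h * P')) := by
    have key : ∀ i : Fin 3, ∃ k : Fin 3, ∃ a : F,
        ((scaleGL c hc0 (P'⁻¹ * h * P') : GL (Fin 3) F) : Matrix (Fin 3) (Fin 3) F) *ᵥ Pi.single i 1 =
          a • Pi.single k 1 := by
      intro i
      have h0 := hcol i i
      rw [Fin.sum_univ_three, Matrix.one_apply_eq, hfix, hfix, hfix] at h0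
      set A := ((scaleGL c hc0 (P'⁻¹ * h * P') : GL (Fin 3) F) : Matrix (Fin 3) (Fin 3) F) with hA
      have hone : (1 : F) ≠ 0 := one_ne_zero
      rcases hz _ (hfix 0 i) with e0 | e0 <;> rcases hz _ (hfix 1 i) with e1 | e1 <;>
        rcases hz _ (hfix 2 i) with e2 | e2
      · exfalso; apply hone; rw [e0, e1, e2] at h0; linear_combination -h0
      · refine ⟨2, A 2 i, ?_⟩
        rw [Matrix.mulVec_single_one]
        ext k
        fin_cases k
        · simpa using e0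
        · simpa using e1
        · simp
      · refine ⟨1, A 1 i, ?_⟩
        rw [Matrix.mulVec_single_one]
        ext k
        fin_cases k
        · simpa using e0
        · simp
        · simpa using e2
      · exfalso; apply hone; rw [e0] at h0; linear_combination h0 - e1 - e2
      · refine ⟨0, A 0 i, ?_⟩
        rw [Matrix.mulVec_single_one]
        ext k
        fin_cases k
        · simp
        · simpa using e1
        · simpa using e2
      · exfalso; apply hone; rw [e1] at h0; linear_combination h0 - e0 - e2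
      · exfalso; apply hone; rw [e2] at h0; linear_combination h0 - e0 - e1
      · exfalso; apply hone; linear_combination h3 - h0 + e0 + e1 + e2
    choose j hj using key
    exact ⟨j, hj⟩
  obtain ⟨j, hj⟩ := hmono
  refine ⟨j, fun i => ?_⟩
  obtain ⟨a, ha⟩ := hj i
  refine ⟨c⁻¹ * a, ?_⟩
  rw [scaleGL_val, Matrix.smul_mulVec] at ha
  rw [mul_smul, ← ha, smul_smul, inv_mul_cancel₀ hc0, one_smul]

end Cfsg.Agent.H907.SU3
end
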